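import Groth.Prelude.Def_AlgSp2
import Groth.Prelude.Def_AlgSp3
import Mathlib.AlgebraicGeometry.Morphisms.UniversallyOpen
import Mathlib.Topology.Maps.OpenQuotient

/-!
# Basic facts on points of sheaves on the big fppf site

* `mk_eq_ofPt`, `exists_ofPt_eq` : every point is `ofPt g t`.
* `ofPt_map_comp` : `ofPt (h_φ ≫ g) t = ofPt g (φ t)`.
* `ofPt_eq_ofPt_iff` : two charts hit the same point iff they agree on a common `W`.
* `exists_of_isPullback` : points of a pullback.
* `repWith_surjective_iff`, `isOpenMap_ofPt`, `isOpenQuotientMap_ofPt`.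
-/

set_option autoImplicit false
universe u
open CategoryTheory CategoryTheory.Limits AlgebraicGeometry Opposite Topology

namespace K610.Base

open AlgSp

variable {S : Scheme.{u}} {F G H P : Sp S}

/-- the morphism `h_T ⟶ F` of a section -/
noncomputable abbrev ofSec {T : Over S} (x : F.obj.obj (op T)) : (yon S).obj T ⟶ F :=
  (J S).uliftYonedaEquiv.symm x

theorem hom_ext_yon {a b : F ⟶ G} (h : ∀ (T : Over S) (g : (yon S).obj T ⟶ F), g ≫ a = g ≫ b) : a = b :=
  (J S).hom_ext_uliftYoneda h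

theorem mono_of_yon {a : F ⟶ G}
    (h : ∀ (T : Over S) (g g' : (yon S).obj T ⟶ F), g ≫ a = g' ≫ a → g = g') : Mono a :=
  ⟨fun x y hxy => hom_ext_yon fun T g => h T _ _ (by
    rw [Category.assoc, Category.assoc, hxy])⟩

theorem mk_eq_ofPt (p : FieldPt F) :
    Points.mk p = Points.ofPt (ofSec p.val) (IsLocalRing.closedPoint p.K : ↥p.pt.left) := by
  have h := Points.ofScheme_apply_eq_mk (S := S) (Over.mk p.str) (𝟙 _) (Category.id_comp _)
  have h2 := congrArg (Points.map (ofSec p.val)) h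
  rw [← Points.ofPt_eq_map_ofScheme] at h2
  refine Eq.trans ?_ h2.symm
  rw [Points.map_mk]
  congr 1
  obtain ⟨K, str, v⟩ := p
  change FieldPt.mk K str v = FieldPt.mk K str _
  congr 1
  change v = ((ofSec v).hom.app (op (Over.mk str))) ⟨𝟙 _⟩
  rw [(J S).uliftYonedaEquiv_symm_app_apply]
  simp

theorem exists_ofPt_eq (x : Points F) :
    ∃ (T : Over S) (g : (yon S).obj T ⟶ F) (t : ↥T.left), Points.ofPt g t = x := by
  induction x using Points.ind with
  | h p => exact ⟨_, _, _, (mk_eq_ofPt p).symm⟩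

theorem ofPt_map_comp {T T' : Over S} (φ : T ⟶ T') (g : (yon S).obj T' ⟶ F) (t : ↥T.left) :
    Points.ofPt ((yon S).map φ ≫ g) t = Points.ofPt g (φ.left t) := by
  rw [← Points.map_ofPt, Points.ofPt_eq_map_ofScheme g, ← Points.toScheme_ofPt φ t,
    Points.ofScheme_toScheme]

theorem ofPt_comp {T : Over S} (g : (yon S).obj T ⟶ F) (f : F ⟶ G) (t : ↥T.left) :
    Points.ofPt (g ≫ f) t = Points.map f (Points.ofPt g t) := rfl

theorem comp_fromSpecResidueField_apply {X W : Scheme.{u}} (x : X) (a : W ⟶ Spec (X.residueField x)) (w : W) :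
    (a ≫ X.fromSpecResidueField x) w = x := by
  rw [Scheme.Hom.comp_apply, Scheme.fromSpecResidueField_apply]

theorem exists_common {T T' : Over S} (g : (yon S).obj T ⟶ F) (g' : (yon S).obj T' ⟶ F)
    (t : ↥T.left) (t' : ↥T'.left) (h : Points.ofPt g t = Points.ofPt g' t') :
    ∃ (W : Over S) (w : ↥W.left) (a : W ⟶ T) (b : W ⟶ T'), a.left w = t ∧ b.left w = t' ∧
      (yon S).map a ≫ g = (yon S).map b ≫ g' := by
  obtain ⟨Ω, _, w, a, b, hab⟩ := Points.mk_eq_mk_iff.1 h
  let a' : Over.mk w ⟶ T := a ≫ Over.homMk (T.left.fromSpecResidueField t) rfl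
  let b' : Over.mk w ⟶ T' := b ≫ Over.homMk (T'.left.fromSpecResidueField t') rfl
  refine ⟨Over.mk w, (IsLocalRing.closedPoint Ω : Spec (CommRingCat.of Ω)), a', b', ?_, ?_, ?_⟩
  · exact comp_fromSpecResidueField_apply t a.left _
  · exact comp_fromSpecResidueField_apply t' b.left _
  · apply (J S).uliftYonedaEquiv.injective
    rw [(J S).uliftYonedaEquiv_comp, (J S).uliftYonedaEquiv_comp, (J S).uliftYonedaEquiv_uliftYoneda_map,
      (J S).uliftYonedaEquiv_uliftYoneda_map]
    exact (NatTrans.naturality_apply g.hom a.op _).trans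
      (hab.trans (NatTrans.naturality_apply g'.hom b.op _).symm)

theorem ofPt_eq_ofPt_iff {T T' : Over S} (g : (yon S).obj T ⟶ F) (g' : (yon S).obj T' ⟶ F)
    (t : ↥T.left) (t' : ↥T'.left) : Points.ofPt g t = Points.ofPt g' t' ↔
    ∃ (W : Over S) (w : ↥W.left) (a : W ⟶ T) (b : W ⟶ T'), a.left w = t ∧ b.left w = t' ∧
      (yon S).map a ≫ g = (yon S).map b ≫ g' := by
  refine ⟨exists_common g g' t t', ?_⟩
  rintro ⟨W, w, a, b, rfl, rfl, h⟩
  rw [← ofPt_map_comp, ← ofPt_map_comp, h]

theorem exists_of_isPullback {fst : P ⟶ F} {snd : P ⟶ G} {f : F ⟶ H} {g : G ⟶ H}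
    (h : IsPullback fst snd f g) (x : Points F) (y : Points G) (hxy : Points.map f x = Points.map g y) :
    ∃ z : Points P, Points.map fst z = x ∧ Points.map snd z = y := by
  obtain ⟨T, a, t, rfl⟩ := exists_ofPt_eq x
  obtain ⟨T', a', t', rfl⟩ := exists_ofPt_eq y
  rw [← ofPt_comp, ← ofPt_comp] at hxy
  obtain ⟨W, w, b, b', rfl, rfl, hb⟩ := exists_common _ _ _ _ hxy
  refine ⟨Points.ofPt (h.lift ((yon S).map b ≫ a) ((yon S).map b' ≫ a') (by simpa using hb)) w, ?_, ?_⟩
  · rw [← ofPt_comp, h.lift_fst, ofPt_map_comp]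
  · rw [← ofPt_comp, h.lift_snd, ofPt_map_comp]

/-- points of a pullback of two charts -/
theorem exists_of_isPullback_yon {T V : Over S} {f : F ⟶ G} {g : (yon S).obj T ⟶ G}
    {fst : (yon S).obj V ⟶ F} {snd : V ⟶ T} (h : IsPullback fst ((yon S).map snd) f g)
    (x : Points F) (t : ↥T.left) (hx : Points.map f x = Points.ofPt g t) :
    ∃ v : ↥V.left, Points.ofPt fst v = x ∧ snd.left v = t := by
  obtain ⟨z, hz1, hz2⟩ := exists_of_isPullback h x (Points.ofScheme T t) (by
    rw [hx, ← Points.ofPt_eq_map_ofScheme])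
  obtain ⟨v, rfl⟩ := (Points.schemeEquiv V).surjective z
  change Points.map fst (Points.ofScheme V v) = x at hz1
  change Points.map ((yon S).map snd) (Points.ofScheme V v) = Points.ofScheme T t at hz2
  refine ⟨v, ?_, ?_⟩
  · rw [← hz1, ← Points.ofPt_eq_map_ofScheme]
  · rw [← Points.ofPt_eq_map_ofScheme] at hz2
    have := congrArg (Points.toScheme T) hz2
    rwa [Points.toScheme_ofPt, Points.toScheme_ofScheme] at this

theorem exists_of_isPullback_charts {T U V : Over S} {f : (yon S).obj U ⟶ G} {g : (yon S).obj T ⟶ G}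
    {fst : V ⟶ U} {snd : V ⟶ T} (h : IsPullback ((yon S).map fst) ((yon S).map snd) f g)
    (x : ↥U.left) (t : ↥T.left) (hx : Points.ofPt f x = Points.ofPt g t) :
    ∃ v : ↥V.left, fst.left v = x ∧ snd.left v = t := by
  obtain ⟨v, hv1, hv2⟩ := exists_of_isPullback_yon h (Points.ofScheme U x) t (by
    rw [← Points.ofPt_eq_map_ofScheme, hx])
  refine ⟨v, ?_, hv2⟩
  have := congrArg (Points.toScheme U) hv1
  rwa [Points.toScheme_ofPt, Points.toScheme_ofScheme] at this

theorem surjective_points_of_repWith {f : F ⟶ G} (hf : RepWith @Surjective f) :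
    Function.Surjective (Points.map f) := by
  intro y
  obtain ⟨T, g, t, rfl⟩ := exists_ofPt_eq y
  have h := hf.property_snd g
  obtain ⟨v, rfl⟩ := (show Surjective (hf.rep.snd g).left from h).surj t
  refine ⟨Points.ofPt (hf.rep.fst g) v, ?_⟩
  rw [← ofPt_comp, hf.rep.w, ofPt_map_comp]

theorem repWith_surjective_of_points {f : F ⟶ G} (hf : Representable f)
    (h : Function.Surjective (Points.map f)) : RepWith @Surjective f := by
  refine ⟨hf, fun U V g fst snd sq => ⟨fun t => ?_⟩⟩
  obtain ⟨x, hx⟩ := h (Points.ofPt g t)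
  obtain ⟨v, -, hv⟩ := exists_of_isPullback_yon sq x t hx
  exact ⟨v, hv⟩

theorem repWith_surjective_iff {f : F ⟶ G} (hf : Representable f) :
    RepWith @Surjective f ↔ Function.Surjective (Points.map f) :=
  ⟨surjective_points_of_repWith, repWith_surjective_of_points hf⟩

theorem surjective_ofPt {U : Over S} {p : (yon S).obj U ⟶ F} (hp : RepWith @Surjective p) :
    Function.Surjective (Points.ofPt p) := by
  intro y
  obtain ⟨x, rfl⟩ := surjective_points_of_repWith hp y
  obtain ⟨t, rfl⟩ := (Points.schemeEquiv U).surjective x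
  exact ⟨t, (Points.ofPt_eq_map_ofScheme p t)⟩

/-- the image of a set of points of a chart, pulled back to another chart -/
theorem preimage_image_ofPt {U T V : Over S} {p : (yon S).obj U ⟶ F} {g : (yon S).obj T ⟶ F}
    {fst : (yon S).obj V ⟶ (yon S).obj U} {snd : V ⟶ T} (h : IsPullback fst ((yon S).map snd) p g)
    (O : Set ↥U.left) :
    Points.ofPt g ⁻¹' (Points.ofPt p '' O) = snd.left '' (((yon S).preimage fst).left ⁻¹' O) := by
  obtain ⟨fst, rfl⟩ := (yon S).map_surjective fst
  rw [Functor.preimage_map]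
  ext t
  constructor
  · rintro ⟨x, hx, hxt⟩
    obtain ⟨v, rfl, rfl⟩ := exists_of_isPullback_charts h x t hxt
    exact ⟨v, hx, rfl⟩
  · rintro ⟨v, hv, rfl⟩
    refine ⟨_, hv, ?_⟩
    rw [← ofPt_map_comp, h.w, ofPt_map_comp]

theorem isOpenMap_ofPt {U : Over S} {p : (yon S).obj U ⟶ F} (hp : RepWith @UniversallyOpen p) :
    IsOpenMap (Points.ofPt p) := by
  intro O hO
  rw [Points.isOpen_iff]
  intro T g
  rw [preimage_image_ofPt (hp.rep.isPullback g)]
  have : UniversallyOpen (hp.rep.snd g).left := hp.property_snd g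
  exact (hp.rep.snd g).left.isOpenMap _ (hO.preimage (Scheme.Hom.continuous _))

theorem repWith_mono {P Q : MorphismProperty Scheme.{u}} (h : P ≤ Q) {f : F ⟶ G} (hf : RepWith P f) :
    RepWith Q f :=
  MorphismProperty.relative_monotone (fun _ _ _ h' => h _ h') _ hf

theorem RepWith.univOpen {f : F ⟶ G} (hf : RepWith @Etale f) : RepWith @UniversallyOpen f :=
  repWith_mono (fun _ _ _ h => by have : Etale _ := h; infer_instance) hf

theorem isOpenMap_ofPt_etale {U : Over S} {p : (yon S).obj U ⟶ F} (hp : RepWith @Etale p) :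
    IsOpenMap (Points.ofPt p) := isOpenMap_ofPt (RepWith.univOpen hp)

theorem isOpenQuotientMap_ofPt {U : Over S} {p : (yon S).obj U ⟶ F} (hp : RepWith @Etale p)
    (hs : RepWith @Surjective p) : IsOpenQuotientMap (Points.ofPt p) :=
  ⟨surjective_ofPt hs, Points.continuous_ofPt p, isOpenMap_ofPt_etale hp⟩

end K610.Base
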