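import Groth.Agent.AlgSp.K610.Base
import Mathlib.AlgebraicGeometry.Noetherian

/-!
# Locally noetherian algebraic spaces: topology
-/

set_option autoImplicit false
universe u
open CategoryTheory CategoryTheory.Limits AlgebraicGeometry Opposite Topology TopologicalSpace

namespace K610.Noeth

open AlgSp K610.Base

variable {S : Scheme.{u}} {F : Sp S}

theorem exists_nhd (hX : IsLocNoethSp F) (x : Points F) :
    ∃ W : Set (Points F), IsOpen W ∧ x ∈ W ∧ NoetherianSpace ↥W := by
  obtain ⟨U, p, hp, hs, hU⟩ := hX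
  obtain ⟨t, rfl⟩ := surjective_ofPt hs x
  obtain ⟨V, hV, htV, -⟩ := exists_isAffineOpen_mem_and_subset (X := U.left) (x := t) (U := ⊤) trivial
  have : IsNoetherianRing Γ(U.left, V) := IsLocallyNoetherian.component_noetherian ⟨V, hV⟩
  have h1 : NoetherianSpace (V : Scheme.{u}) := noetherianSpace_of_isAffineOpen V hV
  refine ⟨Points.ofPt p '' V, isOpenMap_ofPt_etale hp _ V.2, ⟨t, htV, rfl⟩, ?_⟩
  have h2 : Points.ofPt p '' V = Set.range (fun v : (V : Scheme.{u}) => Points.ofPt p (V.ι v)) := by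
    rw [Set.range_comp' (Points.ofPt p) V.ι, Scheme.Opens.range_ι]
  rw [h2]
  exact NoetherianSpace.range _ ((Points.continuous_ofPt p).comp V.ι.continuous)

theorem compactSpace_points (h : IsQuasiCompactSp F) : CompactSpace (Points F) := by
  obtain ⟨U, p, hp, hs, hU⟩ := h
  have := hU
  have h2 := isCompact_range (Points.continuous_ofPt p)
  rw [(surjective_ofPt hs).range_eq] at h2
  exact ⟨h2⟩

theorem noetherianSpace_of_local {X : Type*} [TopologicalSpace X] [CompactSpace X]
    (h : ∀ x : X, ∃ W : Set X, IsOpen W ∧ x ∈ W ∧ NoetherianSpace ↥W) : NoetherianSpace X := by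
  choose W h1 h2 h3 using h
  obtain ⟨t, ht⟩ := isCompact_univ.elim_finite_subcover W h1 (fun x _ => Set.mem_iUnion.2 ⟨x, h2 x⟩)
  have h4 : (⋃ i : t, W i) = Set.univ := by
    rw [Set.eq_univ_iff_forall]
    intro x
    obtain ⟨i, hi, hx⟩ := Set.mem_iUnion₂.1 (ht (Set.mem_univ x))
    exact Set.mem_iUnion.2 ⟨⟨i, hi⟩, hx⟩
  have h5 := NoetherianSpace.iUnion (fun i : t => W i)
  rw [h4] at h5
  exact noetherian_univ_iff.1 h5

end K610.Noeth
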