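import Groth.Agent.AlgSp.K610.Base
import Mathlib.AlgebraicGeometry.Morphisms.FinitePresentation
import Mathlib.Topology.LocallyClosed
import Mathlib.Topology.Constructible

/-!
# Comparing charts; etale local properties

* `exists_common_chart` : fibre product of two charts.
* `etale_local` : a property of schemes local for etale covers goes to every etale chart.
* topology lemmas: descent of local closedness, local constructibility.
-/

set_option autoImplicit false
universe u
open CategoryTheory CategoryTheory.Limits AlgebraicGeometry Opposite Topology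

namespace K610.Chart

open AlgSp K610.Base

variable {S : Scheme.{u}} {F G H P : Sp S}

theorem exists_common_chart {U V : Over S} {p : (yon S).obj U ⟶ F} (hp : RepWith @Etale p)
    (hs : RepWith @Surjective p) (a : (yon S).obj V ⟶ F) :
    ∃ (W : Over S) (b : W ⟶ U) (c : W ⟶ V), IsPullback ((yon S).map b) ((yon S).map c) p a ∧
      Etale c.left ∧ Surjective c.left ∧ (RepWith @Etale a → Etale b.left) := by
  refine ⟨hp.rep.pullback a, hp.rep.fst' a, hp.rep.snd a, hp.rep.isPullback' a,
    hp.property_snd a, hs.2 a _ _ (hp.rep.isPullback' a), fun ha => ?_⟩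
  exact ha.2 p _ _ (hp.rep.isPullback' a).flip

theorem two_cover (Pr : Scheme.{u} → Prop)
    (hP : ∀ (V : Scheme.{u}) (𝒰 : Scheme.Cover.{u} (Scheme.precoverage @Etale) V), Pr V ↔ ∀ i, Pr (𝒰.X i))
    {W U : Scheme.{u}} (b : W ⟶ U) [Etale b] (hU : Pr U) : Pr W := by
  let 𝒰 : Scheme.Cover.{u} (Scheme.precoverage @Etale) U :=
    Scheme.Cover.mkOfCovers (ULift.{u} Bool) (fun i => if i.down then W else U)
      (fun i => match i with | ⟨true⟩ => b | ⟨false⟩ => 𝟙 U)
      (fun x => ⟨⟨false⟩, x, rfl⟩) (fun i => match i with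
        | ⟨true⟩ => ‹Etale b› | ⟨false⟩ => (inferInstance : Etale (𝟙 U)))
  exact (hP U 𝒰).1 hU ⟨true⟩

theorem one_cover (Pr : Scheme.{u} → Prop)
    (hP : ∀ (V : Scheme.{u}) (𝒰 : Scheme.Cover.{u} (Scheme.precoverage @Etale) V), Pr V ↔ ∀ i, Pr (𝒰.X i))
    {W U : Scheme.{u}} (b : W ⟶ U) [Etale b] [Surjective b] (hW : Pr W) : Pr U := by
  let 𝒰 : Scheme.Cover.{u} (Scheme.precoverage @Etale) U :=
    Scheme.Cover.mkOfCovers PUnit.{u + 1} (fun _ => W) (fun _ => b)
      (fun x => ⟨⟨⟩, b.surjective x⟩) (fun _ => ‹Etale b›)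
  exact (hP U 𝒰).2 fun _ => hW

theorem etale_local (Pr : Scheme.{u} → Prop)
    (hP : ∀ (V : Scheme.{u}) (𝒰 : Scheme.Cover.{u} (Scheme.precoverage @Etale) V), Pr V ↔ ∀ i, Pr (𝒰.X i))
    (h : EtaleLocally Pr F) {V : Over S} {a : (yon S).obj V ⟶ F} (ha : RepWith @Etale a) : Pr V.left := by
  obtain ⟨U, p, hp, hs, hU⟩ := h
  obtain ⟨W, b, c, -, hc, hc', hb⟩ := exists_common_chart hp hs a
  have := hb ha
  exact one_cover Pr hP c.left (two_cover Pr hP b.left hU)

/-! ### topology -/

section top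

variable {X Y : Type*} [TopologicalSpace X] [TopologicalSpace Y] {f : X → Y}

theorem isLocallyClosed_of_preimage (hf : IsOpenQuotientMap f) {s : Set Y} (h : IsLocallyClosed (f ⁻¹' s)) :
    IsLocallyClosed s := by
  rw [isLocallyClosed_iff_isOpen_coborder] at h ⊢
  rw [coborder_preimage hf.isOpenMap hf.continuous] at h
  exact hf.isQuotientMap.isOpen_preimage.1 h

end top

theorem isLocallyConstructible_of_forall {X : Type*} [TopologicalSpace X] {s : Set X}
    (h : ∀ x, ∃ U : TopologicalSpace.Opens X, x ∈ U ∧ IsLocallyConstructible ((↑) ⁻¹' s : Set U)) :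
    IsLocallyConstructible s := by
  choose U hU hs using h
  exact .of_isOpenCover (U := U) (by
    rw [TopologicalSpace.IsOpenCover, eq_top_iff]
    intro x _
    exact TopologicalSpace.Opens.mem_iSup.2 ⟨x, hU x⟩) hs

theorem isConstructible_preimage_affine {X Y : Scheme.{u}} (f : X ⟶ Y) [IsAffine X] [IsAffine Y] {s : Set Y}
    (hs : IsConstructible s) : IsConstructible (f ⁻¹' s) := by
  refine hs.preimage f.continuous fun t ht ht' => ?_
  rw [QuasiSeparatedSpace.isRetrocompact_iff_isCompact (ht.preimage f.continuous)]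
  rw [QuasiSeparatedSpace.isRetrocompact_iff_isCompact ht] at ht'
  exact QuasiCompact.isCompact_preimage (f := f) t ht ht'

/-- inverse images of locally constructible sets under morphisms of schemes -/
theorem isLocallyConstructible_preimage {X Y : Scheme.{u}} (f : X ⟶ Y) {s : Set Y}
    (hs : IsLocallyConstructible s) : IsLocallyConstructible (f ⁻¹' s) := by
  apply isLocallyConstructible_of_forall
  intro x
  obtain ⟨V, hV, hxV, -⟩ := exists_isAffineOpen_mem_and_subset (x := f x) (U := ⊤) trivial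
  obtain ⟨U, hU, hxU, hUV⟩ := exists_isAffineOpen_mem_and_subset (x := x) (U := f ⁻¹ᵁ V) hxV
  refine ⟨U, hxU, ?_⟩
  have : IsAffine (U : Scheme.{u}) := hU
  have : IsAffine (V : Scheme.{u}) := hV
  have h1 : IsConstructible (V.ι ⁻¹' s) := (hs.preimage_of_isOpenEmbedding V.ι.isOpenEmbedding).isConstructible
  have h2 := isConstructible_preimage_affine (f.resLE V U hUV) h1
  have h3 : (f.resLE V U hUV) ⁻¹' (V.ι ⁻¹' s) = U.ι ⁻¹' (f ⁻¹' s) := by
    rw [← Set.preimage_comp, ← Set.preimage_comp]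
    ext y
    change V.ι (f.resLE V U hUV y) ∈ s ↔ f (U.ι y) ∈ s
    rw [← Scheme.Hom.comp_apply, ← Scheme.Hom.comp_apply, Scheme.Hom.resLE_comp_ι]
  rw [h3] at h2
  exact h2.isLocallyConstructible

/-- descent of local constructibility along etale surjective morphisms -/
theorem isLocallyConstructible_of_preimage {X Y : Scheme.{u}} (f : X ⟶ Y) [Etale f] [Surjective f] {s : Set Y}
    (hs : IsLocallyConstructible (f ⁻¹' s)) : IsLocallyConstructible s := by
  apply isLocallyConstructible_of_forall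
  intro y
  obtain ⟨x, rfl⟩ := f.surjective y
  obtain ⟨V, hV, hxV, -⟩ := exists_isAffineOpen_mem_and_subset (x := f x) (U := ⊤) trivial
  obtain ⟨U, hU, hxU, hUV⟩ := exists_isAffineOpen_mem_and_subset (x := x) (U := f ⁻¹ᵁ V) hxV
  have : IsAffine (U : Scheme.{u}) := hU
  have : IsAffine (V : Scheme.{u}) := hV
  let O : TopologicalSpace.Opens Y := ⟨f '' U, f.isOpenMap _ U.2⟩
  have hOV : (O : Set Y) ⊆ V := by
    rintro _ ⟨z, hz, rfl⟩
    exact hUV hz
  refine ⟨O, ⟨x, hxU, rfl⟩, ?_⟩
  have h1 : IsLocallyConstructible (U.ι ⁻¹' (f ⁻¹' s)) := hs.preimage_of_isOpenEmbedding U.ι.isOpenEmbedding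
  have h2 := Scheme.Hom.isLocallyConstructible_image (f.resLE V U hUV) h1
  have h5 : IsOpenEmbedding (Set.inclusion hOV) := IsOpenEmbedding.inclusion hOV (O.2.preimage continuous_subtype_val)
  have h4 := h2.preimage_of_isOpenEmbedding h5
  refine (congrArg IsLocallyConstructible ?_).mp h4
  symm
  ext ⟨_, z, hz, rfl⟩
  constructor
  · intro h
    refine ⟨⟨z, hz⟩, h, ?_⟩
    apply V.ι.isOpenEmbedding.injective
    rw [← Scheme.Hom.comp_apply, Scheme.Hom.resLE_comp_ι, Scheme.Hom.comp_apply]
    rfl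
  · rintro ⟨w, hw, hw'⟩
    have h5 := congrArg V.ι hw'
    rw [← Scheme.Hom.comp_apply, Scheme.Hom.resLE_comp_ι, Scheme.Hom.comp_apply] at h5
    have h6 : f (U.ι w) = f z := h5
    change f z ∈ s
    rw [← h6]
    exact hw

end K610.Chart
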