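import Groth.Agent.AlgSp.K610.Factor
import Groth.Agent.AlgSp.K610.Chart

/-!
# Open immersions and charts; presentations
-/

set_option autoImplicit false
universe u
open CategoryTheory CategoryTheory.Limits AlgebraicGeometry Opposite Topology

namespace K610.OpenImm

open AlgSp K610.Base K610.Site K613.Basic K613.Cover K610.Sub K610.Factor K610.Chart

variable {S : Scheme.{u}} {F G H P X Y Z : Sp S}

/-- cancellation along a monomorphism -/
theorem isPullback_id_of_mono (a : F ⟶ G) (j : G ⟶ H) [Mono j] : IsPullback (𝟙 F) a (a ≫ j) j := by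
  have h : IsPullback a (𝟙 F) j (a ≫ j) := by
    refine isPullback_of_yon (by simp) fun T x y h => ?_
    refine ⟨y, ⟨?_, Category.comp_id _⟩, fun z hz => ?_⟩
    · rw [← cancel_mono j, Category.assoc, ← h]
    · rw [← hz.2, Category.comp_id]
  exact h.flip

theorem repWith_of_comp_mono {P : MorphismProperty Scheme.{u}} {a : F ⟶ G} {j : G ⟶ H} [Mono j]
    (h : RepWith P (a ≫ j)) : RepWith P a :=
  MorphismProperty.of_isPullback (P := RepWith P) (isPullback_id_of_mono a j) h

theorem isEmbedding_points {i : Z ⟶ X} (hX : IsAlgSpace X) (hi : RepWith @IsImmersion i) :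
    IsEmbedding (Points.map i) ∧ IsLocallyClosed (Set.range (Points.map i)) := by
  obtain ⟨U, p, hp, hs⟩ := hX.atlas
  obtain ⟨V, c, fst, sq⟩ := hi.1 p
  have hc : IsImmersion c.left := hi.2 p _ _ sq
  have hp' : RepWith @Etale fst := MorphismProperty.of_isPullback (P := RepWith @Etale) sq.flip hp
  have hs' : RepWith @Surjective fst :=
    MorphismProperty.of_isPullback (P := RepWith @Surjective) sq.flip hs
  have hq := isOpenQuotientMap_ofPt hp hs
  have hq' := isOpenQuotientMap_ofPt hp' hs'
  have hcomm : Points.map i ∘ Points.ofPt fst = Points.ofPt p ∘ c.left := by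
    funext v
    change Points.map i (Points.ofPt fst v) = Points.ofPt p (c.left v)
    rw [← ofPt_comp, sq.w, ofPt_map_comp]
  have hpre : Points.ofPt p ⁻¹' Set.range (Points.map i) = Set.range c.left := by
    ext x
    constructor
    · rintro ⟨z, hz⟩
      obtain ⟨v, -, hv⟩ := exists_of_isPullback_yon sq z x hz
      exact ⟨v, hv⟩
    · rintro ⟨v, rfl⟩
      exact ⟨_, congrFun hcomm v⟩
  have hinj : Function.Injective (Points.map i) := by
    intro z z' h
    obtain ⟨x, hx⟩ := hq.surjective (Points.map i z)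
    obtain ⟨v, hv1, hv2⟩ := exists_of_isPullback_yon sq z x hx.symm
    obtain ⟨v', hv1', hv2'⟩ := exists_of_isPullback_yon sq z' x (h.symm.trans hx.symm)
    have : v = v' := c.left.isEmbedding.injective (hv2.trans hv2'.symm)
    rw [← hv1, ← hv1', this]
  refine ⟨?_, ?_⟩
  · refine isEmbedding_of_isOpenQuotientMap_of_isInducing _ _ _ _ hcomm c.left.isEmbedding.isInducing
      hq'.isQuotientMap hq hinj ?_
    rintro x ⟨_, ⟨v, rfl⟩, hv⟩
    rw [← hpre]
    refine ⟨Points.ofPt fst v, ?_⟩
    rw [← hv]
    exact congrFun hcomm v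
  · apply isLocallyClosed_of_preimage hq
    rw [hpre]
    exact c.left.isLocallyClosed_range

theorem repWith_isImmersion_of_open {i : Z ⟶ X} (hi : RepWith @IsOpenImmersion i) : RepWith @IsImmersion i :=
  repWith_mono (fun _ _ f (_ : IsOpenImmersion f) => (inferInstance : IsImmersion f)) hi

theorem repWith_isImmersion_of_closed {i : Z ⟶ X} (hi : RepWith @IsClosedImmersion i) : RepWith @IsImmersion i :=
  repWith_mono (fun _ _ f (_ : IsClosedImmersion f) => (inferInstance : IsImmersion f)) hi

theorem repWith_etale_of_open {i : Z ⟶ X} (hi : RepWith @IsOpenImmersion i) : RepWith @Etale i :=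
  repWith_mono (fun _ _ f (_ : IsOpenImmersion f) => (inferInstance : Etale f)) hi

/-- open immersions into an algebraic space are open embeddings on points -/
theorem isOpenEmbedding_points {i : Z ⟶ X} (hX : IsAlgSpace X) (hi : RepWith @IsOpenImmersion i) :
    IsOpenEmbedding (Points.map i) := by
  have h := isEmbedding_points hX (repWith_isImmersion_of_open hi)
  refine ⟨h.1, ?_⟩
  rw [Points.isOpen_iff]
  intro T g
  have h1 : Points.ofPt g ⁻¹' Set.range (Points.map i) = Set.range (hi.rep.snd g).left := by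
    ext x
    constructor
    · rintro ⟨z, hz⟩
      obtain ⟨v, -, hv⟩ := exists_of_isPullback_yon (hi.rep.isPullback g) z x hz
      exact ⟨v, hv⟩
    · rintro ⟨v, rfl⟩
      refine ⟨Points.ofPt (hi.rep.fst g) v, ?_⟩
      rw [← ofPt_comp, hi.rep.w, ofPt_map_comp]
  rw [h1]
  have : IsOpenImmersion (hi.rep.snd g).left := hi.property_snd g
  exact (hi.rep.snd g).left.isOpenEmbedding.isOpen_range

/-- A chart of an algebraic space, corestricted to the open subspace which is its image. -/
theorem exists_corestrict {U : Over S} {a : (yon S).obj U ⟶ X} {j : Z ⟶ X} (hX : IsAlgSpace X)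
    (hj : RepWith @IsOpenImmersion j)
    (himage : Set.range (Points.map j) = Set.range (Points.ofPt a)) (P : MorphismProperty Scheme.{u})
    (ha : RepWith P a) :
    ∃ a' : (yon S).obj U ⟶ Z, a' ≫ j = a ∧ RepWith P a' ∧ RepWith @Surjective a' := by
  have hm := mono_of_isOpenImmersion hj
  obtain ⟨a', rfl⟩ := exists_lift_open hj a himage.symm.subset
  have h1 : RepWith P a' := repWith_of_comp_mono ha
  refine ⟨a', rfl, h1, repWith_surjective_of_points h1.1 fun z => ?_⟩
  obtain ⟨t, ht⟩ := himage.subset ⟨z, rfl⟩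
  refine ⟨Points.ofScheme U t, (isOpenEmbedding_points hX hj).injective ?_⟩
  rw [← Points.ofPt_eq_map_ofScheme, ← ht]
  rfl

/-- the two projections of a represented kernel pair form an equivalence relation -/
theorem isEqvRel_of_isPullback {R U : Over S} {s t : R ⟶ U} {a : (yon S).obj U ⟶ X}
    (sq : IsPullback ((yon S).map t) ((yon S).map s) a a) : IsEqvRel s t where
  injective T r r' h1 h2 := by
    apply (yon S).map_injective
    apply sq.hom_ext
    · rw [← Functor.map_comp, h1, Functor.map_comp]
    · rw [← Functor.map_comp, h2, Functor.map_comp]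
  equivalence T := by
    have key : ∀ x y : T ⟶ U, (∃ r : T ⟶ R, r ≫ t = x ∧ r ≫ s = y) ↔ (yon S).map x ≫ a = (yon S).map y ≫ a := by
      intro x y
      constructor
      · rintro ⟨r, rfl, rfl⟩
        rw [Functor.map_comp, Functor.map_comp, Category.assoc, Category.assoc, sq.w]
      · intro h
        obtain ⟨r, hr⟩ := (yon S).map_surjective (sq.lift _ _ h)
        refine ⟨r, (yon S).map_injective ?_, (yon S).map_injective ?_⟩
        · rw [Functor.map_comp, hr, sq.lift_fst]
        · rw [Functor.map_comp, hr, sq.lift_snd]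
    refine ⟨fun x => (key _ _).2 rfl, fun {x y} h => (key _ _).2 ((key _ _).1 h).symm,
      fun {x y z} h h' => (key _ _).2 (((key _ _).1 h).trans ((key _ _).1 h'))⟩

theorem isPresentation_of_isPullback {R U : Over S} {s t : R ⟶ U} {a : (yon S).obj U ⟶ X}
    (he : RepWith @Etale a) (hs : RepWith @Surjective a)
    (sq : IsPullback ((yon S).map t) ((yon S).map s) a a) : IsPresentation s t a where
  eqvRel :=
    { toIsEqvRel := isEqvRel_of_isPullback sq
      etale_left := he.2 a _ _ sq
      etale_right := he.2 a _ _ sq.flip }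
  etale := he
  surjective := hs
  isPullback := sq

theorem isPullback_of_comp_mono {A B C : Sp S} {p₁ : A ⟶ B} {p₂ : A ⟶ C} {f : B ⟶ G} {g : C ⟶ G} (j : G ⟶ H) [Mono j]
    (sq : IsPullback p₁ p₂ (f ≫ j) (g ≫ j)) : IsPullback p₁ p₂ f g := by
  refine isPullback_of_yon ?_ fun T x y h => ?_
  · rw [← cancel_mono j, Category.assoc, Category.assoc, sq.w]
  · have h' : x ≫ f ≫ j = y ≫ g ≫ j := by rw [← Category.assoc, h, Category.assoc]
    refine ⟨sq.lift x y h', ⟨sq.lift_fst _ _ _, sq.lift_snd _ _ _⟩, fun z hz => ?_⟩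
    apply sq.hom_ext
    · rw [hz.1, sq.lift_fst]
    · rw [hz.2, sq.lift_snd]

end K610.OpenImm
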