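import Groth.Agent.AlgSp.K610.Site
import Groth.Agent.AlgSp.K613.Cover
import Mathlib.CategoryTheory.Sites.Subsheaf

/-!
# Subsheaves defined by a local condition on test schemes

* `LocPred X` : a condition on maps `h_T ⟶ X`, stable under base change and fppf local; `Q.sub`, `Q.ι`.
* `isAlgSpace_of_representable` : representable over an algebraic space is an algebraic space.
* `openPred W`, `openSub` : the open subspace of an open subset of `|X|`.
-/

set_option autoImplicit false
universe u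
open CategoryTheory CategoryTheory.Limits AlgebraicGeometry Opposite Topology

namespace K610.Sub

open AlgSp K610.Base K610.Site K613.Basic K613.Cover

variable {S : Scheme.{u}} {F G H P X : Sp S}

/-- A condition on maps from test schemes to `X`, stable under base change and local for fppf coverings. -/
structure LocPred (X : Sp S) where
  /-- the condition -/
  pr : ∀ (T : Over S), ((yon S).obj T ⟶ X) → Prop
  map : ∀ {T T' : Over S} (φ : T' ⟶ T) (g : (yon S).obj T ⟶ X), pr T g → pr T' ((yon S).map φ ≫ g)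
  loc : ∀ {T : Over S} (g : (yon S).obj T ⟶ X), (∀ x : T.left, ∃ (Y : Over S) (φ : Y ⟶ T),
    Flat φ.left ∧ LocallyOfFinitePresentation φ.left ∧ x ∈ Set.range φ.left ∧ pr Y ((yon S).map φ ≫ g)) →
    pr T g

namespace LocPred

variable (Q : LocPred X)

/-- the sub-presheaf -/
noncomputable def subf : Subfunctor X.obj where
  obj T := {x | Q.pr T.unop (ofSec (F := X) (T := T.unop) x)}
  map {T T'} i x hx := by
    have h := Q.map i.unop _ hx
    change Q.pr T'.unop (ofSec (F := X) (T := T'.unop) (X.obj.map i x))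
    have h1 : ofSec (F := X) (T := T'.unop) (X.obj.map i x) = (yon S).map i.unop ≫ ofSec (F := X) (T := T.unop) x :=
      GrothendieckTopology.uliftYonedaEquiv_symm_map.{u + 1} (J := J S) i x
    rwa [h1]

/-- the subsheaf -/
noncomputable def sub : Sp S := ⟨Q.subf.toFunctor, by
  rw [isSheaf_iff_isSheaf_of_type, Subfunctor.isSheaf_iff _ ((isSheaf_iff_isSheaf_of_type _ _).1 X.2)]
  intro T x hx
  rw [mem_J_iff] at hx
  change Q.pr T.unop (ofSec (F := X) (T := T.unop) x)
  apply Q.loc
  intro t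
  obtain ⟨Y, φ, h1, h2, h3, h4⟩ := hx t
  refine ⟨Y, φ, h2, h3, h4, ?_⟩
  have h5 : ofSec (F := X) (T := Y) (X.obj.map φ.op x) = (yon S).map φ ≫ ofSec (F := X) (T := T.unop) x :=
    GrothendieckTopology.uliftYonedaEquiv_symm_map.{u + 1} (J := J S) φ.op x
  rw [← h5]
  exact h1⟩

/-- the inclusion of the subsheaf -/
noncomputable def ι : Q.sub ⟶ X := ⟨Q.subf.ι⟩

instance : Mono Q.ι := (sheafToPresheaf (J S) _).mono_of_mono_map (inferInstanceAs (Mono Q.subf.ι))

theorem pr_comp {T : Over S} (g : (yon S).obj T ⟶ Q.sub) : Q.pr T (g ≫ Q.ι) := by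
  have h : Q.pr T (ofSec (F := X) (T := T) ((J S).uliftYonedaEquiv g).1) := ((J S).uliftYonedaEquiv g).2
  have h2 : ofSec (F := X) (T := T) ((J S).uliftYonedaEquiv g).1 = g ≫ Q.ι := by
    rw [Equiv.symm_apply_eq, (J S).uliftYonedaEquiv_comp]
    rfl
  rwa [h2] at h

theorem exists_lift (f : F ⟶ X) (h : ∀ (T : Over S) (g : (yon S).obj T ⟶ F), Q.pr T (g ≫ f)) :
    ∃ f' : F ⟶ Q.sub, f' ≫ Q.ι = f := by
  have key : ∀ (T : (Over S)ᵒᵖ) (x : F.obj.obj T), f.hom.app T x ∈ Q.subf.obj T := by
    intro T x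
    have h1 := h T.unop (ofSec (F := F) (T := T.unop) x)
    rw [GrothendieckTopology.uliftYonedaEquiv_symm_naturality_right] at h1
    exact h1
  refine ⟨⟨{ app := fun T => ↾fun x => ⟨f.hom.app T x, key T x⟩, naturality := ?_ }⟩, ?_⟩
  · intro T T' i
    ext x
    apply Subtype.ext
    exact (NatTrans.naturality_apply f.hom i x)
  · rfl

theorem exists_lift_iff {T : Over S} (g : (yon S).obj T ⟶ X) :
    (∃ g' : (yon S).obj T ⟶ Q.sub, g' ≫ Q.ι = g) ↔ Q.pr T g := by
  constructor
  · rintro ⟨g', rfl⟩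
    exact Q.pr_comp g'
  · intro h
    apply Q.exists_lift
    intro R r
    obtain ⟨r, rfl⟩ := (yon S).map_surjective r
    exact Q.map r g h

theorem isPullback {T V : Over S} (g : (yon S).obj T ⟶ X) (i : V ⟶ T) [Mono i]
    (h : ∀ (R : Over S) (r : R ⟶ T), Q.pr R ((yon S).map r ≫ g) ↔ ∃ r' : R ⟶ V, r' ≫ i = r) :
    ∃ fst : (yon S).obj V ⟶ Q.sub, IsPullback fst ((yon S).map i) Q.ι g := by
  obtain ⟨fst, hfst⟩ := (Q.exists_lift_iff ((yon S).map i ≫ g)).2 ((h V i).2 ⟨𝟙 _, by simp⟩)
  refine ⟨fst, isPullback_of_yon hfst fun R a b hab => ?_⟩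
  obtain ⟨b, rfl⟩ := (yon S).map_surjective b
  obtain ⟨r', hr'⟩ := (h R b).1 (by rw [← hab]; exact Q.pr_comp a)
  refine ⟨(yon S).map r', ⟨?_, ?_⟩, ?_⟩
  · rw [← cancel_mono Q.ι, Category.assoc, hfst, ← Category.assoc, ← Functor.map_comp, hr', hab]
  · rw [← Functor.map_comp, hr']
  · rintro c ⟨-, hc⟩
    rw [← cancel_mono ((yon S).map i), hc, ← Functor.map_comp, hr']

theorem repWith {Pr : MorphismProperty Scheme.{u}} [Pr.IsStableUnderBaseChange]
    (h : ∀ (T : Over S) (g : (yon S).obj T ⟶ X), ∃ (V : Over S) (i : V ⟶ T), Mono i ∧ Pr i.left ∧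
      ∀ (R : Over S) (r : R ⟶ T), Q.pr R ((yon S).map r ≫ g) ↔ ∃ r' : R ⟶ V, r' ≫ i = r) :
    RepWith Pr Q.ι := by
  apply MorphismProperty.relative.of_exists
  intro T g
  obtain ⟨V, i, hi, hP, hV⟩ := h T g
  obtain ⟨fst, sq⟩ := Q.isPullback g i hV
  exact ⟨V, fst, i, sq, hP⟩

end LocPred

/-! ### Algebraic spaces -/

theorem diag_pullback_of_mono (j : F ⟶ G) [Mono j] :
    IsPullback (Limits.diag F) j (prod.map j j) (Limits.diag G) := by
  have e1 : ∀ {A B : Sp S} (m : A ⟶ B), m ≫ Limits.diag B ≫ prod.fst = m := fun m => by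
    rw [prod.lift_fst, Category.comp_id]
  have e2 : ∀ {A B : Sp S} (m : A ⟶ B), m ≫ Limits.diag B ≫ prod.snd = m := fun m => by
    rw [prod.lift_snd, Category.comp_id]
  refine IsPullback.of_isLimit' ⟨?_⟩ ?_
  · apply Limits.prod.hom_ext
    · rw [Category.assoc, prod.map_fst, Category.assoc, e1, ← Category.assoc, prod.lift_fst, Category.id_comp]
    · rw [Category.assoc, prod.map_snd, Category.assoc, e2, ← Category.assoc, prod.lift_snd, Category.id_comp]
  refine PullbackCone.IsLimit.mk _ (fun s => s.fst ≫ prod.fst) ?_ ?_ ?_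
  · intro s
    have h1 := s.condition =≫ prod.fst
    have h2 := s.condition =≫ prod.snd
    rw [Category.assoc, Category.assoc, prod.map_fst, e1] at h1
    rw [Category.assoc, Category.assoc, prod.map_snd, e2] at h2
    apply Limits.prod.hom_ext
    · rw [Category.assoc, e1]
    · rw [Category.assoc, e2, ← cancel_mono j]
      simp only [Category.assoc]
      rw [h1, ← h2]
  · intro s
    have h1 := s.condition =≫ prod.fst
    rw [Category.assoc, Category.assoc, prod.map_fst, e1] at h1
    rw [Category.assoc, h1]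
  · intro s m h1 h2
    rw [← h1, Category.assoc, e1]

theorem isAlgSpace_of_mono {j : F ⟶ G} [Mono j] (hj : Representable j) (hG : IsAlgSpace G) : IsAlgSpace F where
  diag := MorphismProperty.of_isPullback (P := Representable) (diag_pullback_of_mono j).flip hG.diag
  atlas := by
    obtain ⟨U, p, hp, hs⟩ := hG.atlas
    obtain ⟨V, i, fst, sq⟩ := hj p
    exact ⟨V, fst, MorphismProperty.of_isPullback (P := RepWith @Etale) sq.flip hp,
      MorphismProperty.of_isPullback (P := RepWith @Surjective) sq.flip hs⟩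

/-! ### Open subspaces -/

/-- maps whose points land in an open subset `W` of `|X|` -/
noncomputable def openPred (W : Set (Points X)) : LocPred X where
  pr T g := Set.range (Points.ofPt g) ⊆ W
  map {T T'} φ g h := by
    rintro _ ⟨t, rfl⟩
    rw [ofPt_map_comp]
    exact h ⟨_, rfl⟩
  loc {T} g h := by
    rintro _ ⟨t, rfl⟩
    obtain ⟨Y, φ, -, -, ⟨y, rfl⟩, hy⟩ := h t
    rw [← ofPt_map_comp]
    exact hy ⟨y, rfl⟩

theorem exists_open {T : Over S} (O : T.left.Opens) : ∃ (V : Over S) (i : V ⟶ T), Mono i ∧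
    IsOpenImmersion i.left ∧ ∀ (R : Over S) (r : R ⟶ T), (∃ r' : R ⟶ V, r' ≫ i = r) ↔
      Set.range r.left ⊆ O := by
  let V : Over S := Over.mk (O.ι ≫ T.hom)
  let i : V ⟶ T := Over.homMk O.ι rfl
  have hi : IsOpenImmersion i.left := inferInstanceAs (IsOpenImmersion O.ι)
  have hm : Mono ((Over.forget S).map i) := inferInstanceAs (Mono i.left)
  refine ⟨V, i, (Over.forget S).mono_of_mono_map hm, hi, ?_⟩
  intro R r
  have hr : Set.range i.left = (O : Set T.left) := by
    change Set.range O.ι = _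
    simp
  constructor
  · rintro ⟨r', rfl⟩
    rintro _ ⟨x, rfl⟩
    rw [← hr, Over.comp_left, Scheme.Hom.comp_apply]
    exact ⟨_, rfl⟩
  · intro h
    rw [← hr] at h
    have h2 : IsOpenImmersion.lift i.left r.left h ≫ i.left = r.left := IsOpenImmersion.lift_fac _ _ _
    refine ⟨Over.homMk (IsOpenImmersion.lift i.left r.left h) ?_, ?_⟩
    · rw [← Over.w i, ← Category.assoc, h2, Over.w]
    · ext1
      exact h2

theorem repWith_openPred {W : Set (Points X)} (hW : IsOpen W) : RepWith @IsOpenImmersion (openPred W).ι := by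
  apply LocPred.repWith
  intro T g
  obtain ⟨V, i, h1, h2, h3⟩ := exists_open (T := T) ⟨Points.ofPt g ⁻¹' W, hW.preimage (Points.continuous_ofPt g)⟩
  refine ⟨V, i, h1, h2, fun R r => ?_⟩
  rw [h3]
  change Set.range (Points.ofPt _) ⊆ W ↔ _
  constructor
  · rintro h _ ⟨x, rfl⟩
    change Points.ofPt g _ ∈ W
    rw [← ofPt_map_comp]
    exact h ⟨x, rfl⟩
  · rintro h _ ⟨x, rfl⟩
    rw [ofPt_map_comp]
    exact h ⟨x, rfl⟩

theorem range_openPred (W : Set (Points X)) : Set.range (Points.map (openPred W).ι) = W := by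
  ext x
  constructor
  · rintro ⟨y, rfl⟩
    obtain ⟨T, g, t, rfl⟩ := exists_ofPt_eq y
    rw [← ofPt_comp]
    exact (openPred W).pr_comp g ⟨t, rfl⟩
  · intro hx
    induction x using Points.ind with
    | h p =>
      rw [mk_eq_ofPt] at hx ⊢
      obtain ⟨g, hg⟩ := ((openPred W).exists_lift_iff (ofSec p.val)).2 (by
        rintro _ ⟨t, rfl⟩
        have : t = IsLocalRing.closedPoint p.K := Subsingleton.elim (α := PrimeSpectrum p.K) _ _
        rw [this]
        exact hx)
      rw [← hg, ofPt_comp]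
      exact ⟨_, rfl⟩

/-- The open subspace of an algebraic space attached to an open subset of its points. -/
theorem exists_open_subspace (X : Space S) (W : Set (Points X.obj)) (hW : IsOpen W) :
    ∃ (X' : Space S) (j : X' ⟶ X), RepWith @IsOpenImmersion j.hom ∧ Set.range (Points.map j.hom) = W :=
  ⟨⟨_, isAlgSpace_of_mono (repWith_openPred hW).1 X.2⟩, ⟨(openPred W).ι⟩, repWith_openPred hW,
    range_openPred W⟩

end K610.Sub
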