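import Groth.Agent.AlgSp.K610.Sub
import Mathlib.AlgebraicGeometry.Morphisms.IsIso

/-!
# Factorisation through open and closed subspaces; immersions on points
-/

set_option autoImplicit false
universe u
open CategoryTheory CategoryTheory.Limits AlgebraicGeometry Opposite Topology

namespace K610.Factor

open AlgSp K610.Base K610.Site K613.Basic K613.Cover K610.Sub

variable {S : Scheme.{u}} {F G H P X Y Z : Sp S}

/-- A representable morphism all of whose represented pullbacks are monomorphisms is a monomorphism. -/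
theorem mono_of_repWith_mono {f : F ⟶ G} (hf : RepWith (MorphismProperty.monomorphisms Scheme.{u}) f) : Mono f := by
  apply mono_of_yon
  intro T g g' h
  have h1 : Mono (hf.rep.snd (g ≫ f)).left := hf.property_snd (g ≫ f)
  have h2 : Mono ((Over.forget S).map (hf.rep.snd (g ≫ f))) := h1
  have h3 := (Over.forget S).mono_of_mono_map h2
  have e : hf.rep.lift (g := g ≫ f) g (𝟙 T) (by simp) = hf.rep.lift (g := g ≫ f) g' (𝟙 T) (by simp [h]) := by
    rw [← cancel_mono (hf.rep.snd (g ≫ f)), hf.rep.lift_snd, hf.rep.lift_snd]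
  have e2 := congrArg (fun m => (yon S).map m ≫ hf.rep.fst (g ≫ f)) e
  simpa only [hf.rep.lift_fst] using e2

theorem mono_of_isImmersion {f : F ⟶ G} (hf : RepWith @IsImmersion f) : Mono f :=
  mono_of_repWith_mono (repWith_mono (fun _ _ i (_ : IsImmersion i) =>
    (inferInstance : Mono i)) hf)

theorem mono_of_isOpenImmersion {f : F ⟶ G} (hf : RepWith @IsOpenImmersion f) : Mono f :=
  mono_of_repWith_mono (repWith_mono (fun _ _ i (_ : IsOpenImmersion i) =>
    (inferInstance : Mono i)) hf)

theorem mono_of_isClosedImmersion {f : F ⟶ G} (hf : RepWith @IsClosedImmersion f) : Mono f :=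
  mono_of_repWith_mono (repWith_mono (fun _ _ i (_ : IsClosedImmersion i) =>
    (inferInstance : Mono i)) hf)

/-- Factorisation through a monomorphism can be tested on schemes. -/
theorem exists_factor_of_yon (m : Z ⟶ X) [Mono m] (f : Y ⟶ X)
    (h : ∀ (T : Over S) (g : (yon S).obj T ⟶ Y), ∃ g' : (yon S).obj T ⟶ Z, g' ≫ m = g ≫ f) :
    ∃ f' : Y ⟶ Z, f' ≫ m = f := by
  have hi : IsIso (pullback.snd m f) := by
    apply isIso_of_bijective
    intro T y
    obtain ⟨g', hg'⟩ := h T y
    refine ⟨pullback.lift g' y hg', pullback.lift_snd _ _ _, fun z hz => ?_⟩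
    rw [← cancel_mono (pullback.snd m f), hz, pullback.lift_snd]
  refine ⟨inv (pullback.snd m f) ≫ pullback.fst m f, ?_⟩
  rw [Category.assoc, pullback.condition, IsIso.inv_hom_id_assoc]

/-- Factorisation through a monomorphism can be tested after an epimorphism (in sheaves of sets). -/
theorem exists_factor_of_epi (m : Z ⟶ X) [Mono m] (f : Y ⟶ X) (p : H ⟶ Y) [Epi p] (g : H ⟶ Z)
    (h : g ≫ m = p ≫ f) : ∃ f' : Y ⟶ Z, f' ≫ m = f := by
  have h1 : pullback.lift g p h ≫ pullback.snd m f = p := pullback.lift_snd _ _ _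
  have hi : IsIso (pullback.snd m f) := isIso_of_mono_of_epi_comp (q := pullback.lift g p h)
    (by rw [h1]; infer_instance)
  refine ⟨inv (pullback.snd m f) ≫ pullback.fst m f, ?_⟩
  rw [Category.assoc, pullback.condition, IsIso.inv_hom_id_assoc]

/-- Points condition: if all points of `T` go into `|Z|`, the represented pullback `V ⟶ T` is surjective. -/
theorem surjective_of_range {m : Z ⟶ X} {T V : Over S} {g : (yon S).obj T ⟶ X} {fst : (yon S).obj V ⟶ Z}
    {snd : V ⟶ T} (sq : IsPullback fst ((yon S).map snd) m g)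
    (h : Set.range (Points.ofPt g) ⊆ Set.range (Points.map m)) : Surjective snd.left := by
  constructor
  intro t
  obtain ⟨z, hz⟩ := h ⟨t, rfl⟩
  obtain ⟨v, -, hv⟩ := exists_of_isPullback_yon sq z t hz
  exact ⟨v, hv⟩

theorem isIso_of_left {V T : Over S} (i : V ⟶ T) (h : IsIso i.left) : IsIso i := by
  have : IsIso ((Over.forget S).map i) := h
  exact isIso_of_reflects_iso i (Over.forget S)

theorem exists_lift_of_isIso {m : Z ⟶ X} {T V : Over S} {g : (yon S).obj T ⟶ X} {fst : (yon S).obj V ⟶ Z}
    {snd : V ⟶ T} (sq : IsPullback fst ((yon S).map snd) m g) (h : IsIso snd.left) :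
    ∃ g' : (yon S).obj T ⟶ Z, g' ≫ m = g := by
  have := isIso_of_left snd h
  refine ⟨inv ((yon S).map snd) ≫ fst, ?_⟩
  rw [Category.assoc, sq.w, IsIso.inv_hom_id_assoc]

theorem exists_lift_open {m : Z ⟶ X} (hm : RepWith @IsOpenImmersion m) {T : Over S} (g : (yon S).obj T ⟶ X)
    (h : Set.range (Points.ofPt g) ⊆ Set.range (Points.map m)) : ∃ g' : (yon S).obj T ⟶ Z, g' ≫ m = g := by
  have h1 := surjective_of_range (hm.rep.isPullback g) h
  have h2 : IsOpenImmersion (hm.rep.snd g).left := hm.property_snd g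
  exact exists_lift_of_isIso (hm.rep.isPullback g) ((isIso_iff_isOpenImmersion_and_surjective _).2 ⟨h2, h1⟩)

theorem exists_lift_closed {m : Z ⟶ X} (hm : RepWith @IsClosedImmersion m) {T : Over S} [IsReduced T.left]
    (g : (yon S).obj T ⟶ X)
    (h : Set.range (Points.ofPt g) ⊆ Set.range (Points.map m)) : ∃ g' : (yon S).obj T ⟶ Z, g' ≫ m = g := by
  have h1 := surjective_of_range (hm.rep.isPullback g) h
  have h2 : IsClosedImmersion (hm.rep.snd g).left := hm.property_snd g
  exact exists_lift_of_isIso (hm.rep.isPullback g) (isIso_of_isClosedImmersion_of_surjective _)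

theorem range_comp_subset (f : Y ⟶ Z) (m : Z ⟶ X) : Set.range (Points.map (f ≫ m)) ⊆ Set.range (Points.map m) := by
  rintro _ ⟨y, rfl⟩
  exact ⟨Points.map f y, (Points.map_comp f m y).symm⟩

theorem range_ofPt_comp_subset {T : Over S} (g : (yon S).obj T ⟶ Y) (f : Y ⟶ X) :
    Set.range (Points.ofPt (g ≫ f)) ⊆ Set.range (Points.map f) := by
  rintro _ ⟨t, rfl⟩
  exact ⟨Points.ofPt g t, rfl⟩

/-- Factorisation through an open subspace. -/
theorem factors_open_iff {j : Z ⟶ X} (hj : RepWith @IsOpenImmersion j) (f : Y ⟶ X) :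
    (∃ g : Y ⟶ Z, g ≫ j = f) ↔ Set.range (Points.map f) ⊆ Set.range (Points.map j) := by
  have := mono_of_isOpenImmersion hj
  constructor
  · rintro ⟨g, rfl⟩
    exact range_comp_subset _ _
  · intro h
    apply exists_factor_of_yon
    intro T g
    exact exists_lift_open hj (g ≫ f) ((range_ofPt_comp_subset g f).trans h)

/-- Factorisation of a reduced space through a closed subspace. -/
theorem factors_closed_iff {j : Z ⟶ X} (hj : RepWith @IsClosedImmersion j) (hY : EtaleLocally (fun U => IsReduced U) Y) (f : Y ⟶ X) :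
    (∃ g : Y ⟶ Z, g ≫ j = f) ↔ Set.range (Points.map f) ⊆ Set.range (Points.map j) := by
  have := mono_of_isClosedImmersion hj
  constructor
  · rintro ⟨g, rfl⟩
    exact range_comp_subset _ _
  · intro h
    obtain ⟨U, p, hp, hs, hU⟩ := hY
    have := hU
    have := epi_of_etale hp hs
    obtain ⟨g, hg⟩ := exists_lift_closed hj (p ≫ f) ((range_ofPt_comp_subset p f).trans h)
    exact exists_factor_of_epi j f p g hg

end K610.Factor
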