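import Groth.Agent.AlgSp.K610.OpenImm
import Groth.Agent.AlgSp.K613.Cover

/-!
# Two quotients of the same equivalence relation are isomorphic
-/

set_option autoImplicit false
universe u
open CategoryTheory CategoryTheory.Limits AlgebraicGeometry Opposite Topology
open AlgSp

namespace K610.Coeq

open K613.Cover

variable {S : Scheme.{u}} {X Y H P : Sp S}

/-- Two fppf locally surjective maps with the same kernel pair have isomorphic targets. -/
theorem exists_iso {p : H ⟶ X} {q : H ⟶ Y} (hp : FSurj p) (hq : FSurj q) {s t : P ⟶ H}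
    (sp : IsPullback t s p p) (sq : IsPullback t s q q) : ∃ e : Y ≅ X, q ≫ e.hom = p := by
  have := hp.epi
  have := hq.epi
  obtain ⟨f, hf, -⟩ := hq.desc p (fun R u v huv => by
    have h := congrArg (fun z => sq.lift u v huv ≫ z) sp.w
    simp only [← Category.assoc, sq.lift_fst, sq.lift_snd] at h
    exact h)
  obtain ⟨g, hg, -⟩ := hp.desc q (fun R u v huv => by
    have h := congrArg (fun z => sp.lift u v huv ≫ z) sq.w
    simp only [← Category.assoc, sp.lift_fst, sp.lift_snd] at h
    exact h)
  refine ⟨⟨f, g, ?_, ?_⟩, hf⟩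
  · rw [← cancel_epi q, ← Category.assoc, hf, hg, Category.comp_id]
  · rw [← cancel_epi p, ← Category.assoc, hg, hf, Category.comp_id]

theorem isPullback_yon {A B C D : Over S} {a : A ⟶ B} {b : A ⟶ C} {c : B ⟶ D} {d : C ⟶ D}
    (sq : IsPullback a.left b.left c.left d.left) :
    IsPullback ((yon S).map a) ((yon S).map b) ((yon S).map c) ((yon S).map d) := by
  have h : IsPullback a b c d := IsPullback.of_map (Over.forget S) (Over.OverMorphism.ext sq.w) sq
  exact h.map (yon S)

/-- transfer of a property of a chart through an isomorphism -/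
theorem prop_of_comp_iso {P : MorphismProperty Scheme.{u}} [P.IsStableUnderBaseChange] {U M : Over S} {m : U ⟶ M}
    {p : (yon S).obj U ⟶ X} (e : (yon S).obj M ≅ X) (h : (yon S).map m ≫ e.hom = p) (hp : RepWith P p) :
    P m.left := by
  rw [← repWith_yon_map_iff P m]
  have := K610.OpenImm.repWith_of_comp_mono (P := P) (a := (yon S).map m) (j := e.hom) (by
    rw [h]
    exact hp)
  exact this

end K610.Coeq
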