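import Groth.Agent.S4085
import Groth.Agent.S4086
import Groth.Agent.GrpQ.H777.ERelGrpd
import Groth.Agent.AlgSp.K610.Coeq

/-!
# Sheaves with a finite locally free chart

`exists_iso` : let `p : h_U ⟶ X` be representable, finite, flat, locally of finite presentation and surjective and
assume that every fibre of `|U| ⟶ |X|` is contained in an affine open of `U`.  Then `X` is a scheme `M`, and
`U ⟶ M` is finite locally free; `M` is affine when `U` is.
-/

set_option autoImplicit false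
universe u
open CategoryTheory CategoryTheory.Limits AlgebraicGeometry Opposite Topology
open AlgSp

namespace K610.FinQuot

open K610.Base K613.Cover Groth.Agent.Sga3C.QuotRel

variable {S : Scheme.{u}} {X : Sp S}

theorem isERel {R U : Over S} {s t : R ⟶ U} (h : IsEqvRel s t) : IsERel t.left s.left where
  mono {T} x y h1 h2 := by
    let T' : Over S := Over.mk (x ≫ R.hom)
    let x' : T' ⟶ R := Over.homMk x
    let y' : T' ⟶ R := Over.homMk y (by
      change y ≫ R.hom = x ≫ R.hom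
      rw [← Over.w t, ← Category.assoc, ← Category.assoc, h1])
    have := h.injective T' x' y' (Over.OverMorphism.ext h1) (Over.OverMorphism.ext h2)
    exact congrArg CommaMorphism.left this
  refl {T} a := by
    let a' : Over.mk (a ≫ U.hom) ⟶ U := Over.homMk a
    obtain ⟨r, h1, h2⟩ := (h.equivalence _).refl a'
    exact ⟨r.left, congrArg CommaMorphism.left h1, congrArg CommaMorphism.left h2⟩
  symm {T a b} hab := by
    obtain ⟨r, rfl, rfl⟩ := hab
    let r' : Over.mk (r ≫ R.hom) ⟶ R := Over.homMk r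
    obtain ⟨q, h1, h2⟩ := (h.equivalence _).symm ⟨r', rfl, rfl⟩
    exact ⟨q.left, congrArg CommaMorphism.left h1, congrArg CommaMorphism.left h2⟩
  trans {T a b c} hab hbc := by
    obtain ⟨r, rfl, rfl⟩ := hab
    obtain ⟨q, hq, rfl⟩ := hbc
    let r' : Over.mk (r ≫ R.hom) ⟶ R := Over.homMk r
    let q' : Over.mk (r ≫ R.hom) ⟶ R := Over.homMk q (by
      change q ≫ R.hom = r ≫ R.hom
      have e1 : q ≫ R.hom = (q ≫ t.left) ≫ U.hom := by rw [Category.assoc, Over.w]
      have e2 : r ≫ R.hom = (r ≫ s.left) ≫ U.hom := by rw [Category.assoc, Over.w]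
      rw [e1, e2, hq])
    obtain ⟨z, h1, h2⟩ := (h.equivalence _).trans ⟨r', rfl, rfl⟩ ⟨q', Over.OverMorphism.ext hq, rfl⟩
    exact ⟨z.left, congrArg CommaMorphism.left h1, congrArg CommaMorphism.left h2⟩

theorem exists_iso {U : Over S} {p : (yon S).obj U ⟶ X} (h1 : RepWith @IsFinite p) (h2 : RepWith @Flat p)
    (h3 : RepWith @LocallyOfFinitePresentation p) (h4 : RepWith @Surjective p)
    (hb : ∀ x : U.left, ∃ V : U.left.Opens, IsAffineOpen V ∧ ∀ y : U.left, Points.ofPt p y = Points.ofPt p x → y ∈ V) :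
    ∃ (M : Over S) (m : U ⟶ M) (e : (yon S).obj M ≅ X), (yon S).map m ≫ e.hom = p ∧
      Mor2.IsFinLocFree m.left ∧ Surjective m.left ∧ (IsAffine U.left → IsAffine M.left) := by
  obtain ⟨R, s, t', sq⟩ := h1.1 p
  obtain ⟨t, rfl⟩ := (yon S).map_surjective t'
  have hE : IsEqvRel s t := K610.OpenImm.isEqvRel_of_isPullback sq
  have hE' := isERel hE
  have hw : t.left ≫ U.hom = s.left ≫ U.hom := by rw [Over.w, Over.w]
  let G := Groth.Agent.GrpQ.H777.ERelGrpd.ofERel U.hom hE' hw
  have hj : Mono G.j := Groth.Agent.GrpQ.H777.ERelGrpd.mono_j U.hom hE' hw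
  have ha : Mor2.IsFinLocFree G.s :=
    ⟨h1.2 p _ _ sq, h2.2 p _ _ sq, h3.2 p _ _ sq⟩
  have hb' : ∀ x : G.U, ∃ V : G.U.Opens, IsAffineOpen V ∧ G.t.base '' (G.s.base ⁻¹' {x}) ⊆ (V : Set G.U) := by
    intro x
    obtain ⟨V, hV, hVx⟩ := hb x
    refine ⟨V, hV, ?_⟩
    rintro _ ⟨r, hr, rfl⟩
    apply hVx
    change Points.ofPt p (t.left r) = _
    rw [← ofPt_map_comp, sq.w, ofPt_map_comp]
    congr 1
  obtain ⟨Y, q, w, ⟨hc⟩, -, hsurj, -, -, -, haff⟩ := Groth.Agent.S4085.result S G ha hb'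
  obtain ⟨hpb, hfin⟩ := Groth.Agent.S4086.result S G ha hb' Y q w hc
  let y : Y ⟶ S := Cofork.IsColimit.desc hc U.hom hw
  have hy : q ≫ y = U.hom := Cofork.IsColimit.π_desc' hc _ _
  let m : U ⟶ Over.mk y := Over.homMk q hy
  have hfp : FpC m := ⟨hfin.2.1, hfin.2.2, hsurj⟩
  have sq2 : IsPullback ((yon S).map t) ((yon S).map s) ((yon S).map m) ((yon S).map m) :=
    K610.Coeq.isPullback_yon hpb
  obtain ⟨e, he⟩ := K610.Coeq.exists_iso (FSurj.of_repWith h2 h3 h4) hfp.fSurj sq sq2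
  exact ⟨_, m, e, he, hfin, hsurj, haff⟩

end K610.FinQuot
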