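import Groth.Agent.AlgSp.K610.ZarGlue

/-!
# The schematic locus of an algebraic space

`IsSch X W` : the subset `W` of `|X|` is the image of an open subspace of `X` which is a scheme.
* `IsSch.isOpen`, `IsSch.mono` (smaller open subsets), `IsSch.iUnion`, `IsSch.sUnion` (arbitrary unions),
* `isSch_iff` (an open subspace `Z ⟶ X` with image `W` is representable iff `IsSch X W`),
* `locus X` the largest one, `isRepresentable_iff_forall`.
-/

set_option autoImplicit false
universe u
open CategoryTheory CategoryTheory.Limits AlgebraicGeometry Opposite Topology TopologicalSpace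
open AlgSp

namespace K610.SchLocus

open K610.Base K610.Factor K610.OpenImm K610.Sub K610.ZarGlue

variable {S : Scheme.{u}} {X Z : Sp S}

/-- an open subset of `|X|` carried by an open subspace which is a scheme -/
def IsSch (X : Sp S) (W : Set (Points X)) : Prop :=
  ∃ (H : Over S) (f : (yon S).obj H ⟶ X), RepWith @IsOpenImmersion f ∧ Set.range (Points.ofPt f) = W

theorem range_ofPt {H : Over S} (f : (yon S).obj H ⟶ X) :
    Set.range (Points.ofPt f) = Set.range (Points.map f) := by
  ext x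
  constructor
  · rintro ⟨t, rfl⟩
    exact ⟨Points.ofScheme H t, (Points.ofPt_eq_map_ofScheme f t).symm⟩
  · rintro ⟨y, rfl⟩
    obtain ⟨t, rfl⟩ := (Points.schemeEquiv H).surjective y
    exact ⟨t, Points.ofPt_eq_map_ofScheme f t⟩

theorem range_comp_of_surjective {Y : Sp S} {H : Over S} (g : (yon S).obj H ⟶ Z) (j : Z ⟶ Y)
    (hg : Function.Surjective (Points.ofPt g)) : Set.range (Points.ofPt (g ≫ j)) = Set.range (Points.map j) := by
  ext x
  constructor
  · rintro ⟨t, rfl⟩
    exact ⟨Points.ofPt g t, rfl⟩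
  · rintro ⟨y, rfl⟩
    obtain ⟨t, rfl⟩ := hg y
    exact ⟨t, rfl⟩

theorem repWith_iso (e : X ≅ Z) : RepWith @IsOpenImmersion e.hom :=
  MorphismProperty.of_isIso (P := RepWith @IsOpenImmersion) e.hom

theorem surjective_ofPt_iso {H : Over S} (e : (yon S).obj H ≅ X) : Function.Surjective (Points.ofPt e.hom) := by
  intro x
  obtain ⟨t, ht⟩ := (Points.schemeEquiv H).surjective (Points.map e.inv x)
  refine ⟨t, ?_⟩
  change Points.ofScheme H t = _ at ht
  rw [Points.ofPt_eq_map_ofScheme, ht, ← Points.map_comp, e.inv_hom_id, Points.map_id]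

theorem IsSch.isOpen {W : Set (Points X)} (h : IsSch X W) : IsOpen W := by
  obtain ⟨H, f, hf, rfl⟩ := h
  exact (isOpenMap_ofPt_etale (repWith_etale_of_open hf)).isOpen_range

theorem isSch_iff {j : Z ⟶ X} (hj : RepWith @IsOpenImmersion j) :
    IsSch X (Set.range (Points.map j)) ↔ Z.obj.IsRepresentable := by
  rw [isRepresentable_iff]
  have := mono_of_isOpenImmersion hj
  constructor
  · rintro ⟨H, f, hf, hr⟩
    have := mono_of_isOpenImmersion hf
    obtain ⟨a, ha⟩ := (factors_open_iff hj f).2 (by rw [← range_ofPt, hr])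
    obtain ⟨b, hb⟩ := (factors_open_iff hf j).2 (by rw [← range_ofPt, hr])
    refine ⟨H, ⟨⟨a, b, ?_, ?_⟩⟩⟩
    · rw [← cancel_mono f, Category.assoc, hb, ha, Category.id_comp]
    · rw [← cancel_mono j, Category.assoc, ha, hb, Category.id_comp]
  · rintro ⟨H, ⟨e⟩⟩
    refine ⟨H, e.hom ≫ j, MorphismProperty.comp_mem (RepWith @IsOpenImmersion) _ _ (repWith_iso e) hj, ?_⟩
    exact range_comp_of_surjective _ _ (surjective_ofPt_iso e)

theorem IsSch.mono {W W' : Set (Points X)} (h : IsSch X W) (hW' : IsOpen W') (hWW : W' ⊆ W) : IsSch X W' := by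
  obtain ⟨H, f, hf, rfl⟩ := h
  let O : H.left.Opens := ⟨Points.ofPt f ⁻¹' W', hW'.preimage (Points.continuous_ofPt f)⟩
  let i : Over.mk (O.ι ≫ H.hom) ⟶ H := Over.homMk O.ι
  have hi : RepWith @IsOpenImmersion ((yon S).map i) := (repWith_yon_map_iff _ _).2 (inferInstance : IsOpenImmersion O.ι)
  refine ⟨_, (yon S).map i ≫ f, MorphismProperty.comp_mem (RepWith @IsOpenImmersion) _ _ hi hf, ?_⟩
  ext x
  constructor
  · rintro ⟨t, rfl⟩
    rw [ofPt_map_comp]
    exact t.2
  · intro hx
    obtain ⟨t, rfl⟩ := hWW hx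
    exact ⟨⟨t, hx⟩, by rw [ofPt_map_comp]; rfl⟩

theorem IsSch.iUnion {X : Space S} {κ : Sort*} (W : κ → Set (Points X.obj)) (h : ∀ i, IsSch X.obj (W i)) :
    IsSch X.obj (⋃ i, W i) := by
  have hWo : IsOpen (⋃ i, W i) := isOpen_iUnion fun i => (h i).isOpen
  obtain ⟨X', j, hj, hr⟩ := exists_open_subspace X _ hWo
  have := mono_of_isOpenImmersion hj
  rw [← hr, isSch_iff hj, isRepresentable_iff]
  obtain ⟨U, p, hp, hs⟩ := X.2.atlas
  let ι : Type u := {O : U.left.Opens // IsSch X.obj (Points.ofPt p '' (O : Set U.left)) ∧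
    Points.ofPt p '' (O : Set U.left) ⊆ ⋃ i, W i}
  choose H f hf hfr using fun O : ι => O.2.1
  have h1 : ∀ O : ι, ∃ g : (yon S).obj (H O) ⟶ X'.obj, g ≫ j.hom = f O := fun O => by
    refine (factors_open_iff hj _).2 ?_
    rw [← range_ofPt, hfr, hr]
    exact O.2.2
  choose g hg using h1
  have h2 : ∀ O, RepWith @IsOpenImmersion (g O) := fun O => repWith_of_comp_mono (j := j.hom) (by
    rw [hg]
    exact hf O)
  obtain ⟨H', e, -, -, -, -⟩ := exists_iso_of_openCover H g h2 (by
    intro x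
    have hx : Points.map j.hom x ∈ ⋃ i, W i := by
      rw [← hr]
      exact ⟨x, rfl⟩
    obtain ⟨i, hi⟩ := Set.mem_iUnion.1 hx
    let O : U.left.Opens := ⟨Points.ofPt p ⁻¹' W i, (h i).isOpen.preimage (Points.continuous_ofPt p)⟩
    have hO : Points.ofPt p '' (O : Set U.left) = W i := Set.image_preimage_eq _ (surjective_ofPt hs)
    let O' : ι := ⟨O, by rw [hO]; exact h i, by rw [hO]; exact Set.subset_iUnion W i⟩
    refine ⟨O', ?_⟩
    have h3 : Points.map j.hom x ∈ Set.range (Points.ofPt (f O')) := by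
      rw [hfr, hO]
      exact hi
    obtain ⟨t, ht⟩ := h3
    rw [← hg] at ht
    rw [← range_ofPt]
    exact ⟨t, (isOpenEmbedding_points X.2 hj).injective ht⟩)
  exact ⟨H', ⟨e⟩⟩

theorem IsSch.sUnion {X : Space S} (A : Set (Set (Points X.obj))) (h : ∀ W ∈ A, IsSch X.obj W) :
    IsSch X.obj (⋃₀ A) := by
  rw [Set.sUnion_eq_iUnion]
  exact IsSch.iUnion _ fun W => h W.1 W.2

/-- the schematic locus -/
def locus (X : Space S) : Set (Points X.obj) := ⋃₀ {W | IsSch X.obj W}

theorem isSch_locus (X : Space S) : IsSch X.obj (locus X) := IsSch.sUnion _ fun _ h => h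

theorem IsSch.subset_locus {X : Space S} {W : Set (Points X.obj)} (h : IsSch X.obj W) : W ⊆ locus X :=
  Set.subset_sUnion_of_mem h

theorem mem_locus_iff {X : Space S} {x : Points X.obj} : x ∈ locus X ↔ ∃ W, IsSch X.obj W ∧ x ∈ W := by
  simp [locus]

theorem isOpen_locus (X : Space S) : IsOpen (locus X) := (isSch_locus X).isOpen

theorem isSch_iff_subset_locus {X : Space S} {W : Set (Points X.obj)} :
    IsSch X.obj W ↔ IsOpen W ∧ W ⊆ locus X :=
  ⟨fun h => ⟨h.isOpen, h.subset_locus⟩, fun h => (isSch_locus X).mono h.1 h.2⟩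

theorem isSch_univ_iff : IsSch X Set.univ ↔ X.obj.IsRepresentable := by
  rw [← isSch_iff (repWith_iso (Iso.refl X)), show (Iso.refl X).hom = 𝟙 X from rfl]
  have : Set.range (Points.map (𝟙 X)) = Set.univ :=
    Set.range_eq_univ.2 fun x => ⟨x, Points.map_id x⟩
  rw [this]

theorem isRepresentable_iff_forall {X : Space S} :
    X.obj.obj.IsRepresentable ↔ ∀ x : Points X.obj, ∃ W, IsSch X.obj W ∧ x ∈ W := by
  rw [← isSch_univ_iff]
  constructor
  · intro h x
    exact ⟨_, h, trivial⟩
  · intro h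
    have : locus X = Set.univ := Set.eq_univ_of_forall fun x => mem_locus_iff.2 (h x)
    rw [← this]
    exact isSch_locus X

end K610.SchLocus
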