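import Groth.Agent.AlgSp.K610.OpenImm
import Groth.Agent.Picfga.OverRep

/-!
# A sheaf covered by open subsheaves which are schemes is a scheme
-/

set_option autoImplicit false
universe u
open CategoryTheory CategoryTheory.Limits AlgebraicGeometry Opposite Topology

namespace K610.ZarGlue

open AlgSp K610.Base K610.Site K613.Basic K613.Cover K610.Sub K610.Factor K610.Chart K610.OpenImm
open Groth.Agent.Picfga

variable {S : Scheme.{u}} {F G H P X Y Z : Sp S}

theorem isZarSheaf (F : Sp S) : OverRep.IsZarSheaf F.obj := by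
  intro T 𝒰 x hx
  have h1 : ∀ i, Flat (𝒰.j i).left := fun i => inferInstance
  have h2 : ∀ i, LocallyOfFinitePresentation (𝒰.j i).left := fun i => inferInstance
  obtain ⟨y, hy, hy'⟩ := glueFam (F := F) 𝒰.V 𝒰.j h1 h2 𝒰.covers (fun i => ofSec (x i)) (by
    intro i k R a b hab
    rw [GrothendieckTopology.uliftYonedaEquiv_symm_naturality_left,
      GrothendieckTopology.uliftYonedaEquiv_symm_naturality_left, hx i k R a b hab])
  refine ⟨(J S).uliftYonedaEquiv y, fun i => ?_, fun z hz => ?_⟩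
  · rw [(J S).uliftYonedaEquiv_naturality, hy i, Equiv.apply_symm_apply]
  · rw [← hy' (ofSec z) (fun i => ?_), Equiv.apply_symm_apply]
    change (yon S).map (𝒰.j i) ≫ ofSec z = _
    rw [GrothendieckTopology.uliftYonedaEquiv_symm_naturality_left, hz i]

theorem map_eq_iff {A B : Over S} (a : A ⟶ B) (x : F.obj.obj (op B)) (y : F.obj.obj (op A)) :
    F.obj.map a.op x = y ↔ (yon S).map a ≫ ofSec x = ofSec y := by
  rw [GrothendieckTopology.uliftYonedaEquiv_symm_naturality_left]
  exact (Equiv.apply_eq_iff_eq _).symm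

theorem ofSec_map {A B : Over S} (a : A ⟶ B) (x : F.obj.obj (op B)) :
    ofSec (F.obj.map a.op x) = (yon S).map a ≫ ofSec x :=
  (GrothendieckTopology.uliftYonedaEquiv_symm_naturality_left _ _ _ _).symm

theorem ofSec_inj {A : Over S} {x y : F.obj.obj (op A)} : ofSec x = ofSec y ↔ x = y :=
  (J S).uliftYonedaEquiv.symm.injective.eq_iff

/-- the locus where a section comes from an open subsheaf -/
theorem exists_local_of_range {j : Z ⟶ X} (hj : RepWith @IsOpenImmersion j) {T : Over S} (g : (yon S).obj T ⟶ X)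
    (t : T.left) (ht : Points.ofPt g t ∈ Set.range (Points.map j)) :
    ∃ (O : T.left.Opens) (k : (yon S).obj (Over.mk (O.ι ≫ T.hom)) ⟶ Z), t ∈ O ∧
      k ≫ j = (yon S).map (OverRep.res T O) ≫ g := by
  have h1 : IsOpenImmersion (hj.rep.snd g).left := hj.property_snd g
  obtain ⟨z, hz⟩ := ht
  obtain ⟨v, -, hv⟩ := exists_of_isPullback_yon (hj.rep.isPullback g) z t hz
  let O : T.left.Opens := (hj.rep.snd g).left.opensRange
  let e : Over.mk (O.ι ≫ T.hom) ⟶ hj.rep.pullback g := Over.homMk (IsOpenImmersion.lift (hj.rep.snd g).left O.ι (by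
      rw [Scheme.Opens.range_ι]; rfl)) (by
      rw [← Over.w (hj.rep.snd g), IsOpenImmersion.lift_fac_assoc]
      rfl)
  have he : e ≫ hj.rep.snd g = OverRep.res T O := by
    ext1
    exact IsOpenImmersion.lift_fac _ _ _
  refine ⟨O, (yon S).map e ≫ hj.rep.fst g, ⟨v, hv⟩, ?_⟩
  rw [Category.assoc, hj.rep.w, ← Category.assoc, ← Functor.map_comp, he]

/-- Charts for a sheaf with an open cover by schemes. -/
noncomputable def charts {ι : Type u} (U : ι → Over S) (f : ∀ i, (yon S).obj (U i) ⟶ F)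
    (hf : ∀ i, RepWith @IsOpenImmersion (f i))
    (hs : ∀ x : Points F, ∃ i, x ∈ Set.range (Points.map (f i))) : OverRep.Charts F.obj where
  ι := ι
  X := U
  ξ i := (J S).uliftYonedaEquiv (f i)
  mono i T a b h := by
    have := mono_of_isOpenImmersion (hf i)
    rw [(J S).uliftYonedaEquiv_naturality, (J S).uliftYonedaEquiv_naturality] at h
    have h2 := (J S).uliftYonedaEquiv.injective h
    rw [cancel_mono] at h2
    exact (yon S).map_injective h2
  isOpen i T x T' g h hgh t := by
    obtain ⟨O, k, hO, hk⟩ := exists_local_of_range (hf i) (ofSec x) (g.left t) (by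
      have h1 : (yon S).map h ≫ f i = (yon S).map g ≫ ofSec x := by
        apply (J S).uliftYonedaEquiv.injective
        rw [← (J S).uliftYonedaEquiv_naturality, hgh, ← (J S).uliftYonedaEquiv_naturality, Equiv.apply_symm_apply]
      rw [← ofPt_map_comp, ← h1, ← Points.map_ofPt]
      exact ⟨_, rfl⟩)
    obtain ⟨k, rfl⟩ := (yon S).map_surjective k
    refine ⟨O, k, hO, ?_⟩
    have := congrArg (J S).uliftYonedaEquiv hk
    rwa [← (J S).uliftYonedaEquiv_naturality, ← (J S).uliftYonedaEquiv_naturality, Equiv.apply_symm_apply] at this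
  covers T x t := by
    obtain ⟨i, hi⟩ := hs (Points.ofPt (ofSec x) t)
    obtain ⟨O, k, hO, hk⟩ := exists_local_of_range (hf i) (ofSec x) t hi
    obtain ⟨k, rfl⟩ := (yon S).map_surjective k
    refine ⟨i, O, k, hO, ?_⟩
    have := congrArg (J S).uliftYonedaEquiv hk
    rwa [← (J S).uliftYonedaEquiv_naturality, ← (J S).uliftYonedaEquiv_naturality, Equiv.apply_symm_apply] at this

theorem exists_iso_of_openCover {ι : Type u} (U : ι → Over S) (f : ∀ i, (yon S).obj (U i) ⟶ F)
    (hf : ∀ i, RepWith @IsOpenImmersion (f i))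
    (hs : ∀ x : Points F, ∃ i, x ∈ Set.range (Points.map (f i))) :
    ∃ (H : Over S) (e : (yon S).obj H ≅ F) (j : ∀ i, U i ⟶ H),
      (∀ i, IsOpenImmersion (j i).left) ∧ (∀ i, (yon S).map (j i) ≫ e.hom = f i) ∧
      ∀ h : H.left, ∃ (i : ι) (y : (U i).left), (j i).left y = h := by
  obtain ⟨H, Z, j, h1, h2, h3, h4⟩ := (charts U f hf hs).exists_universal' (isZarSheaf F)
  have hiso : IsIso (ofSec Z : (yon S).obj H ⟶ F) := by
    apply isIso_of_bijective
    intro T y
    obtain ⟨g, hg, hg'⟩ := h1 T ((J S).uliftYonedaEquiv y)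
    refine ⟨(yon S).map g, ?_, fun g' hg2 => ?_⟩
    · change (yon S).map g ≫ ofSec Z = y
      apply (J S).uliftYonedaEquiv.injective
      rw [← (J S).uliftYonedaEquiv_naturality, Equiv.apply_symm_apply, hg]
    · obtain ⟨g', rfl⟩ := (yon S).map_surjective g'
      rw [hg' g' ?_]
      have := congrArg (J S).uliftYonedaEquiv hg2
      rwa [← (J S).uliftYonedaEquiv_naturality, Equiv.apply_symm_apply] at this
  refine ⟨H, asIso (ofSec Z), j, h2, fun i => ?_, h4⟩
  apply (J S).uliftYonedaEquiv.injective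
  change (J S).uliftYonedaEquiv ((yon S).map (j i) ≫ ofSec Z) = _
  rw [← (J S).uliftYonedaEquiv_naturality, Equiv.apply_symm_apply, h3]
  rfl

theorem isRepresentable_iff : F.obj.IsRepresentable ↔ ∃ H : Over S, Nonempty ((yon S).obj H ≅ F) := by
  constructor
  · rintro ⟨H, ⟨e⟩⟩
    exact ⟨H, ⟨isoOfRepresentableBy e⟩⟩
  · rintro ⟨H, ⟨e⟩⟩
    exact ⟨H, ⟨representableByOfIso e⟩⟩

end K610.ZarGlue
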