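import Groth.Agent.AlgSp.K610.FinLocus

/-!
# Zariski locally quasi-separated spaces: codimension zero points are in the schematic locus
-/

set_option autoImplicit false
universe u
open CategoryTheory CategoryTheory.Limits AlgebraicGeometry Opposite Topology TopologicalSpace
open AlgSp

namespace K610.ZarQs

open K610.Base K610.SchLocus K610.Sub K613.Cover

variable {S : Scheme.{u}}

theorem isEtaleMor_of_open {X Z : Sp S} {j : Z ⟶ X} (hj : RepWith @IsOpenImmersion j) : IsEtaleMor j :=
  fun _ _ hφ => MorphismProperty.comp_mem (RepWith @Etale) _ _ hφ (K610.OpenImm.repWith_etale_of_open hj)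

/-- pointwise form of S10200 -/
theorem mem_locus {X X' : Space S} {j : X' ⟶ X} (hj : RepWith @IsOpenImmersion j.hom)
    (hX' : RepWith @QuasiCompact (Limits.diag X'.obj)) {x : Points X.obj} (hx : K621.Generic.CodimZero X.obj x)
    (hxj : x ∈ Set.range (Points.map j.hom)) : x ∈ locus X := by
  obtain ⟨x', rfl⟩ := hxj
  rw [K621.Generic.codimZero_map_iff X.2 X'.2 (isEtaleMor_of_open hj)] at hx
  exact K610.FinLocus.map_mem_locus hj (K610.FinLocus.mem_locus_of_quasiSeparated hX' hx)

end K610.ZarQs
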