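import Groth.Agent.AlgSp.K610.OpenImm
import Groth.Agent.AlgSp.K606.LqfDesc
import Groth.Agent.AlgSp.K595.DescInst
import Groth.Agent.AlgSp.K612.Reduced
import Groth.Agent.Ega1.ReducedSub

/-!
# The reduced induced structure on a closed subset of `|X|`
-/

set_option autoImplicit false
universe u
open CategoryTheory CategoryTheory.Limits AlgebraicGeometry Opposite Topology TopologicalSpace
open AlgSp

namespace K610.RedInd

open K610.Base K610.Sub K613.Basic K613.Cover

variable {S : Scheme.{u}}

/-- reduced closed subscheme over `S` with given support -/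
theorem exists_reduced_closed (U : Over S) (T : Set U.left) (hT : IsClosed T) :
    ∃ (Z : Over S) (z : Z ⟶ U), IsClosedImmersion z.left ∧ IsReduced Z.left ∧ Set.range z.left = T := by
  let I := Scheme.IdealSheafData.vanishingIdeal (⟨T, hT⟩ : Closeds U.left)
  have hr : Set.range I.subschemeι = T := by
    rw [Scheme.IdealSheafData.range_subschemeι, Scheme.IdealSheafData.coe_support_vanishingIdeal]
    rfl
  refine ⟨Over.mk (I.subschemeι ≫ U.hom), Over.homMk I.subschemeι, ?_, ?_, hr⟩
  · exact (inferInstance : IsClosedImmersion I.subschemeι)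
  · exact Groth.Agent.Ega1.ReducedSub.isReduced_subscheme_vanishingIdeal _

/-- maps from reduced schemes factor through closed subschemes as soon as points do -/
theorem exists_factor {W U Z : Over S} (z : Z ⟶ U) [IsClosedImmersion z.left] (c : W ⟶ U) [IsReduced W.left]
    (h : Set.range c.left ⊆ Set.range z.left) : ∃ c' : W ⟶ Z, c' ≫ z = c := by
  have hs : Surjective (pullback.snd z.left c.left) := by
    constructor
    intro w
    obtain ⟨y, hy⟩ := h ⟨w, rfl⟩
    obtain ⟨x, -, hx⟩ := Scheme.Pullback.exists_preimage_pullback y w hy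
    exact ⟨x, hx⟩
  have hi : IsIso (pullback.snd z.left c.left) := isIso_of_isClosedImmersion_of_surjective _
  have hc : (inv (pullback.snd z.left c.left) ≫ pullback.fst z.left c.left) ≫ z.left = c.left := by
    rw [Category.assoc, pullback.condition, IsIso.inv_hom_id_assoc]
  refine ⟨Over.homMk (inv (pullback.snd z.left c.left) ≫ pullback.fst z.left c.left) ?_, ?_⟩
  · rw [← Over.w z, ← Category.assoc, hc, Over.w]
  · ext1
    exact hc

theorem mono_of_closed {U Z : Over S} (z : Z ⟶ U) [IsClosedImmersion z.left] : Mono z := by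
  have : Mono ((Over.forget S).map z) := (inferInstance : Mono z.left)
  exact (Over.forget S).mono_of_mono_map this

/-- étale pullback of a reduced closed subscheme -/
theorem factor_swap {U Z R : Over S} (z : Z ⟶ U) [IsClosedImmersion z.left] [IsReduced Z.left] (s t : R ⟶ U)
    [Etale s.left] (h : ∀ r : R.left, s.left r ∈ Set.range z.left → t.left r ∈ Set.range z.left)
    {W : Over S} (r : W ⟶ R) (c : W ⟶ Z) (hc : c ≫ z = r ≫ s) : ∃ c' : W ⟶ Z, c' ≫ z = r ≫ t := by
  have sq := IsPullback.of_hasPullback z s
  have sql := sq.map (Over.forget S)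
  have h1 : Etale (pullback.fst z s).left :=
    MorphismProperty.of_isPullback (P := @Etale) (f := z.left) (f' := (pullback.snd z s).left)
      (g := s.left) (g' := (pullback.fst z s).left) sql.flip ‹_›
  have h2 : IsReduced (pullback z s).left := K612.Reduced.isReduced_of_etale (pullback.fst z s).left
  obtain ⟨d, hd⟩ := exists_factor z (pullback.snd z s ≫ t) (by
    rintro _ ⟨x, rfl⟩
    rw [Over.comp_left, Scheme.Hom.comp_apply]
    apply h
    refine ⟨(pullback.fst z s).left x, ?_⟩
    have := congrArg (fun (f : pullback z s ⟶ U) => f.left x) (pullback.condition (f := z) (g := s))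
    simpa using this)
  refine ⟨pullback.lift c r hc ≫ d, ?_⟩
  rw [Category.assoc, hd, ← Category.assoc, pullback.lift_snd]

/-- factoring through a closed subscheme is fppf local -/
theorem exists_factor_of_local {U Z W : Over S} (z : Z ⟶ U) [Mono z] (c : W ⟶ U)
    (h : ∀ w : W.left, ∃ (Y : Over S) (φ : Y ⟶ W) (d : Y ⟶ Z), Flat φ.left ∧ LocallyOfFinitePresentation φ.left ∧
      w ∈ Set.range φ.left ∧ d ≫ z = φ ≫ c) : ∃ c' : W ⟶ Z, c' ≫ z = c := by
  choose Y φ d h1 h2 h3 h4 using h
  obtain ⟨y, hy, -⟩ := glueFam (F := (yon S).obj Z) Y φ h1 h2 (fun w => ⟨w, h3 w⟩) (fun w => (yon S).map (d w)) (by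
    intro i j R a b hab
    rw [← Functor.map_comp, ← Functor.map_comp]
    congr 1
    rw [← cancel_mono z, Category.assoc, Category.assoc, h4, h4, ← Category.assoc, ← Category.assoc, hab])
  obtain ⟨c', rfl⟩ := (yon S).map_surjective y
  refine ⟨c', ?_⟩
  apply (yon S).map_injective
  obtain ⟨y, -, hy'⟩ := glueFam (F := (yon S).obj U) Y φ h1 h2 (fun w => ⟨w, h3 w⟩) (fun w => (yon S).map (φ w ≫ c)) (by
    intro i j R a b hab
    rw [← Functor.map_comp, ← Functor.map_comp, ← Category.assoc, ← Category.assoc, hab])
  have e1 := hy' ((yon S).map (c' ≫ z)) (fun w => by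
    have := hy w
    rw [← Functor.map_comp] at this
    have := (yon S).map_injective this
    rw [← Functor.map_comp, ← Category.assoc, this, h4])
  have e2 := hy' ((yon S).map c) (fun w => by rw [← Functor.map_comp])
  rw [e1, e2]

/-- the condition cutting out the closed subspace -/
noncomputable def pred {X : Sp S} {U Z : Over S} (p : (yon S).obj U ⟶ X) (z : Z ⟶ U) [Mono z] : LocPred X where
  pr V g := ∀ (W : Over S) (b : W ⟶ V) (c : W ⟶ U), (yon S).map b ≫ g = (yon S).map c ≫ p →
    ∃ c' : W ⟶ Z, c' ≫ z = c
  map {V V'} φ g h := by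
    intro W b c hbc
    exact h W (b ≫ φ) c (by rw [Functor.map_comp, Category.assoc, hbc])
  loc {V} g h := by
    intro W b c hbc
    apply exists_factor_of_local z c
    intro w
    obtain ⟨Y, φ, h1, h2, h3, h4⟩ := h (b.left w)
    have sq := IsPullback.of_hasPullback b φ
    have sql := sq.map (Over.forget S)
    obtain ⟨y, hy⟩ := h3
    have g1 : Flat (pullback.fst b φ).left := MorphismProperty.of_isPullback (P := @Flat) sql.flip h1
    have g2 : LocallyOfFinitePresentation (pullback.fst b φ).left :=
      MorphismProperty.of_isPullback (P := @LocallyOfFinitePresentation) sql.flip h2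
    have g3 : w ∈ Set.range (pullback.fst b φ).left := by
      have e1 := ofPt_map_comp b (𝟙 _) w
      have e2 := ofPt_map_comp φ (𝟙 _) y
      rw [Category.comp_id] at e1 e2
      obtain ⟨x, hx, -⟩ := exists_of_isPullback_charts (sq.map (yon S)) w y (by rw [e1, e2, hy])
      exact ⟨x, hx⟩
    obtain ⟨d, hd⟩ := h4 (pullback b φ) (pullback.snd b φ) (pullback.fst b φ ≫ c) (by
      rw [← Category.assoc, ← Functor.map_comp, ← pullback.condition, Functor.map_comp, Category.assoc, hbc,
        Functor.map_comp, Category.assoc])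
    exact ⟨_, pullback.fst b φ, d, g1, g2, g3, hd⟩

theorem exists_redInduced (X : Space S) (T : Set (Points X.obj)) (hT : IsClosed T) :
    ∃ (Z : Space S) (i : Z ⟶ X), IsRedInduced T i.hom := by
  obtain ⟨U, p, hp, hs⟩ := X.2.atlas
  obtain ⟨Z, z, hz, hzr, hrange⟩ := exists_reduced_closed U (Points.ofPt p ⁻¹' T)
    (hT.preimage (Points.continuous_ofPt p))
  have hm := mono_of_closed z
  let Q := pred p z
  obtain ⟨R, s, t', sqR⟩ := hp.1 p
  obtain ⟨t, rfl⟩ := (yon S).map_surjective t'
  have hse : Etale s.left := hp.2 p _ _ sqR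
  obtain ⟨fst, sq⟩ := Q.isPullback p z (by
    intro W r
    constructor
    · intro h
      exact h W (𝟙 _) r (by simp)
    · rintro ⟨r', rfl⟩
      intro W' b c hbc
      have hw : (yon S).map c ≫ p = (yon S).map (b ≫ r' ≫ z) ≫ p := by
        rw [← hbc]
        simp only [Functor.map_comp, Category.assoc]
      obtain ⟨ρ, hρ⟩ := (yon S).map_surjective (sqR.lift _ _ hw)
      have e1 : ρ ≫ t = c := by
        apply (yon S).map_injective
        rw [Functor.map_comp, hρ, sqR.lift_fst]
      have e2 : ρ ≫ s = b ≫ r' ≫ z := by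
        apply (yon S).map_injective
        rw [Functor.map_comp, hρ, sqR.lift_snd]
      obtain ⟨c', hc'⟩ := factor_swap z s t (fun r hr => by
        rw [hrange] at hr ⊢
        change Points.ofPt p (t.left r) ∈ T
        rw [← ofPt_map_comp, sqR.w, ofPt_map_comp]
        exact hr) ρ (b ≫ r') (by rw [e2, Category.assoc])
      exact ⟨c', by rw [hc', e1]⟩)
  have hF : FSurj p := (ESurj.of_repWith hp hs).fSurj
  have hzrep : RepWith @IsClosedImmersion ((yon S).map z) := (repWith_yon_map_iff _ _).2 hz
  have hrep : Representable Q.ι := K606.LqfDesc.representable_of_fSurj sq hF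
    ((repWith_yon_map_iff _ _).2 ⟨(inferInstance : IsSeparated z.left),
      (inferInstance : LocallyQuasiFinite z.left), (inferInstance : LocallyOfFiniteType z.left)⟩)
  have hcl : RepWith @IsClosedImmersion Q.ι := by
    have := K595.DescInst.isClosedImmersion.{u}
    exact hF.repWith (Pr := @IsClosedImmersion) sq hrep hzrep
  refine ⟨⟨Q.sub, isAlgSpace_of_mono hrep X.2⟩, ⟨Q.ι⟩, hcl, ?_, ?_⟩
  · ext x
    constructor
    · rintro ⟨y, rfl⟩
      obtain ⟨u, hu⟩ := surjective_ofPt hs (Points.map Q.ι y)
      obtain ⟨v, -, hv⟩ := exists_of_isPullback_yon sq y u hu.symm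
      have : u ∈ Set.range z.left := ⟨v, hv⟩
      rw [hrange] at this
      change Points.map Q.ι y ∈ T
      rw [← hu]
      exact this
    · intro hx
      obtain ⟨u, rfl⟩ := surjective_ofPt hs x
      have : u ∈ Set.range z.left := by
        rw [hrange]
        exact hx
      obtain ⟨v, rfl⟩ := this
      refine ⟨Points.ofPt fst v, ?_⟩
      change Points.map Q.ι _ = _
      rw [← ofPt_comp, sq.w, ofPt_map_comp]
  · exact ⟨Z, fst, MorphismProperty.of_isPullback (P := RepWith @Etale) sq.flip hp,
      MorphismProperty.of_isPullback (P := RepWith @Surjective) sq.flip hs, hzr⟩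

end K610.RedInd
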