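import Groth.Agent.AlgSp.K610.OpenImm
import Groth.Agent.Flat2G.EtaleSource
import Mathlib.AlgebraicGeometry.Morphisms.LocalFlatDescent

/-!
# Etale morphisms of sheaves: source descent, chart criterion, base change, cancellation
-/

set_option autoImplicit false
universe u
open CategoryTheory CategoryTheory.Limits AlgebraicGeometry Opposite Topology

namespace K610.EtaleMor

open AlgSp K610.Base K610.Site K613.Basic K613.Cover K610.Chart K610.OpenImm

variable {S : Scheme.{u}} {F G H P X Y Z : Sp S}

theorem etale_of_source {W' W : Over S} (c : W' ⟶ W) [Etale c.left] [Surjective c.left] {φ : (yon S).obj W ⟶ G}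
    (hφ : Representable φ) (h : RepWith @Etale ((yon S).map c ≫ φ)) : RepWith @Etale φ := by
  refine ⟨hφ, fun T V g fst snd sq => ?_⟩
  obtain ⟨fst, rfl⟩ := (yon S).map_surjective fst
  have sq2 : IsPullback (pullback.snd fst c) (pullback.fst fst c) c fst := (IsPullback.of_hasPullback fst c).flip
  have sq3 : IsPullback ((yon S).map (pullback.snd fst c)) ((yon S).map (pullback.fst fst c ≫ snd))
      ((yon S).map c ≫ φ) g := by
    rw [Functor.map_comp]
    exact (sq2.map (yon S)).flip.paste_horiz sq.flip |>.flip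
  have h1 : Etale (pullback.fst fst c ≫ snd).left := h.2 g _ _ sq3
  have sq4 := sq2.map (Over.forget S)
  have h2 : Etale (pullback.fst fst c).left := MorphismProperty.of_isPullback (P := @Etale) sq4 ‹_›
  have h3 : Surjective (pullback.fst fst c).left := MorphismProperty.of_isPullback (P := @Surjective) sq4 ‹_›
  rw [Over.comp_left] at h1
  exact Groth.Agent.Flat2G.EtaleSource.etale_of_comp (pullback.fst fst c).left snd.left

/-- cancellation for etale charts: a morphism between schemes etale over `G` is etale -/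
theorem etale_of_comp_etale {U V : Over S} (q : U ⟶ V) {v : (yon S).obj V ⟶ G}
    (hv : RepWith @Etale v) (hu : RepWith @Etale ((yon S).map q ≫ v)) : Etale q.left := by
  -- `V ×_G V`, `U ×_G V`
  let w := (yon S).map q ≫ v
  obtain ⟨R, s, t', sqR⟩ := hv.1 v
  obtain ⟨t, rfl⟩ := (yon S).map_surjective t'
  obtain ⟨Q, b, a', sqQ⟩ := hu.1 v
  obtain ⟨a, rfl⟩ := (yon S).map_surjective a'
  -- `sqR : R = V ×_G V` with projections `t, s`, `sqQ : Q = U ×_G V` with projections `a, b`
  have hb : Etale b.left := hu.2 v _ _ sqQ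
  have hs : Etale s.left := hv.2 v _ _ sqR
  obtain ⟨m, hm⟩ := (yon S).map_surjective (sqR.lift ((yon S).map a ≫ (yon S).map q) ((yon S).map b) (by
    rw [Category.assoc]; exact sqQ.w))
  have hm1 : m ≫ t = a ≫ q := (yon S).map_injective (by rw [Functor.map_comp, hm, sqR.lift_fst, Functor.map_comp])
  have hm2 : m ≫ s = b := (yon S).map_injective (by rw [Functor.map_comp, hm, sqR.lift_snd])
  -- `Q → R` is etale
  have hme : Etale m.left := by
    have h1 : Etale (m.left ≫ s.left) := by rw [← Over.comp_left, hm2]; exact hb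
    exact Etale.of_comp m.left s.left
  -- the diagonal `V → R` pulled back
  obtain ⟨d, hd⟩ := (yon S).map_surjective (sqR.lift (𝟙 _) (𝟙 _) rfl)
  have hd1 : d ≫ t = 𝟙 V := (yon S).map_injective (by rw [Functor.map_comp, hd, sqR.lift_fst, CategoryTheory.Functor.map_id])
  have hd2 : d ≫ s = 𝟙 V := (yon S).map_injective (by rw [Functor.map_comp, hd, sqR.lift_snd, CategoryTheory.Functor.map_id])
  obtain ⟨γ, hγ⟩ := (yon S).map_surjective (sqQ.lift (𝟙 _) ((yon S).map q) (by rw [Category.id_comp]))
  have hγ1 : γ ≫ a = 𝟙 U := (yon S).map_injective (by rw [Functor.map_comp, hγ, sqQ.lift_fst, CategoryTheory.Functor.map_id])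
  have hγ2 : γ ≫ b = q := (yon S).map_injective (by rw [Functor.map_comp, hγ, sqQ.lift_snd])
  have hextR : ∀ {T : Over S} (x y : T ⟶ R), x ≫ t = y ≫ t → x ≫ s = y ≫ s → x = y := fun x y h1 h2 =>
    (yon S).map_injective (sqR.hom_ext (by rw [← Functor.map_comp, h1, Functor.map_comp])
      (by rw [← Functor.map_comp, h2, Functor.map_comp]))
  have hextQ : ∀ {T : Over S} (x y : T ⟶ Q), x ≫ a = y ≫ a → x ≫ b = y ≫ b → x = y := fun x y h1 h2 =>
    (yon S).map_injective (sqQ.hom_ext (by rw [← Functor.map_comp, h1, Functor.map_comp])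
      (by rw [← Functor.map_comp, h2, Functor.map_comp]))
  have sq : IsPullback γ q m d := by
    refine IsPullback.of_isLimit' ⟨?_⟩ ?_
    · apply hextR
      · rw [Category.assoc, hm1, ← Category.assoc, hγ1, Category.id_comp, Category.assoc, hd1, Category.comp_id]
      · rw [Category.assoc, hm2, hγ2, Category.assoc, hd2, Category.comp_id]
    · refine PullbackCone.IsLimit.mk _ (fun c => c.fst ≫ a) ?_ ?_ ?_
      · intro c
        have h1 := c.condition =≫ t
        have h2 := c.condition =≫ s
        rw [Category.assoc, Category.assoc, hd1, Category.comp_id, hm1] at h1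
        rw [Category.assoc, Category.assoc, hd2, Category.comp_id, hm2] at h2
        apply hextQ
        · rw [Category.assoc, Category.assoc, hγ1, Category.comp_id]
        · rw [Category.assoc, Category.assoc, hγ2, h1, h2]
      · intro c
        have h1 := c.condition =≫ t
        rw [Category.assoc, Category.assoc, hd1, Category.comp_id, hm1] at h1
        rw [Category.assoc, h1]
      · intro c n h1 h2
        rw [← h1, Category.assoc, hγ1, Category.comp_id]
  exact MorphismProperty.of_isPullback (P := @Etale) (sq.map (Over.forget S)) hme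

/-- chart criterion for etaleness -/
theorem isEtaleMor_of_chart {f : X ⟶ Y} (hY : IsAlgSpace Y) {U : Over S} {a : (yon S).obj U ⟶ X}
    (ha : RepWith @Etale a) (has : RepWith @Surjective a) (h : RepWith @Etale (a ≫ f)) : IsEtaleMor f := by
  intro W φ hφ
  obtain ⟨W', b, c, sq, hc, hcs, hb⟩ := exists_common_chart ha has φ
  have hb' := hb hφ
  apply etale_of_source c (hY.representable_from_yon _)
  rw [← Category.assoc, ← sq.w, Category.assoc]
  exact MorphismProperty.comp_mem _ _ _ ((repWith_yon_map_iff _ _).2 hb') h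

/-- composition of RepWith etale -/
theorem comp_etale {a : F ⟶ G} {b : G ⟶ H} (ha : RepWith @Etale a) (hb : RepWith @Etale b) :
    RepWith @Etale (a ≫ b) := MorphismProperty.comp_mem _ _ _ ha hb

theorem comp_surjective {a : F ⟶ G} {b : G ⟶ H} (ha : RepWith @Surjective a) (hb : RepWith @Surjective b) :
    RepWith @Surjective (a ≫ b) := MorphismProperty.comp_mem _ _ _ ha hb

theorem isEtaleMor_baseChange {f : X ⟶ Y} {g : Z ⟶ Y} {fst : P ⟶ Z} {snd : P ⟶ X} (hX : IsAlgSpace X)
    (hP : IsAlgSpace P) (hZ : IsAlgSpace Z)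
    (h : IsPullback fst snd g f) (hf : IsEtaleMor f) : IsEtaleMor fst := by
  obtain ⟨U, a, ha, has⟩ := hX.atlas
  obtain ⟨Q, q, hq, hqs⟩ := hP.atlas
  have sqA := IsPullback.of_hasPullback snd a
  have h1 : RepWith @Etale (pullback.fst snd a ≫ fst) :=
    MorphismProperty.of_isPullback (P := RepWith @Etale) (sqA.flip.paste_vert h.flip) (hf a ha)
  have h2 : RepWith @Etale (pullback.fst snd a) := MorphismProperty.of_isPullback (P := RepWith @Etale) sqA.flip ha
  have h3 : RepWith @Surjective (pullback.fst snd a) :=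
    MorphismProperty.of_isPullback (P := RepWith @Surjective) sqA.flip has
  obtain ⟨W, c, w, sqW⟩ := h2.1 q
  have hw : RepWith @Etale w := MorphismProperty.of_isPullback (P := RepWith @Etale) sqW.flip hq
  have hc : RepWith @Etale ((yon S).map c) := MorphismProperty.of_isPullback (P := RepWith @Etale) sqW h2
  have hcs : RepWith @Surjective ((yon S).map c) := MorphismProperty.of_isPullback (P := RepWith @Surjective) sqW h3
  refine isEtaleMor_of_chart hZ (comp_etale hc hq) (comp_surjective hcs hqs) ?_
  have e : ((yon S).map c ≫ q) ≫ fst = w ≫ pullback.fst snd a ≫ fst := by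
    rw [← sqW.w, Category.assoc]
  rw [e]
  exact comp_etale hw h1

theorem isEtaleMor_of_comp {f : X ⟶ Y} {h : Y ⟶ Z} (hX : IsAlgSpace X) (hY : IsAlgSpace Y)
    (hg : IsEtaleMor (f ≫ h)) (hh : IsEtaleMor h) : IsEtaleMor f := by
  obtain ⟨U, a, ha, has⟩ := hX.atlas
  obtain ⟨V, b, hb, hbs⟩ := hY.atlas
  refine isEtaleMor_of_chart hY ha has ?_
  obtain ⟨R, c, w, sq⟩ := (hY.representable_from_yon (a ≫ f)) b
  obtain ⟨w, rfl⟩ := (yon S).map_surjective w
  -- `w : R → U` etale, `c : R → V`
  have h1 : RepWith @Etale ((yon S).map w) := MorphismProperty.of_isPullback (P := RepWith @Etale) sq.flip hb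
  have h2 : RepWith @Etale ((yon S).map c ≫ b ≫ h) := by
    have e : (yon S).map c ≫ b ≫ h = (yon S).map w ≫ a ≫ f ≫ h := by
      rw [← Category.assoc, ← sq.w]; simp only [Category.assoc]
    rw [e]
    exact comp_etale h1 (hg a ha)
  have h3 : Etale c.left := etale_of_comp_etale c (hh b hb) h2
  exact (ESurj.of_repWith hb hbs).fSurj.repWith sq (hY.representable_from_yon _) ((repWith_yon_map_iff _ _).2 h3)

end K610.EtaleMor
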