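import Groth.Agent.AlgSp.K610.FinQuot
import Groth.Agent.AlgSp.K610.SchLocus
import Groth.Agent.AlgSp.K595.DescInst
import Groth.Agent.AlgSp.K609.Diag
import Mathlib.AlgebraicGeometry.Morphisms.QuasiFinite
import Mathlib.AlgebraicGeometry.Morphisms.Etale
import Mathlib.RingTheory.Unramified.LocalStructure

/-!
# Quotients of artinian charts

`exists_iso_of_artinian` : a sheaf with an étale surjective chart `V ⟶ X`, `V` affine and (locally) artinian,
`V ×_X V` quasi-compact, is an affine scheme `M` with `V ⟶ M` finite étale.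
-/

set_option autoImplicit false
universe u
open CategoryTheory CategoryTheory.Limits AlgebraicGeometry Opposite Topology
open AlgSp

namespace K610.ArtQuot

open K610.Base K613.Cover

variable {S : Scheme.{u}} {X : Sp S}

theorem locallyQuasiFinite_of_etale {X Y : Scheme.{u}} (f : X ⟶ Y) [Etale f] :
    LocallyQuasiFinite f := by
  rw [HasRingHomProperty.eq_affineLocally (P := @LocallyQuasiFinite), affineLocally_iff_affineOpens_le]
  intro V W h
  have het : (f.appLE V W h).hom.Etale := HasRingHomProperty.appLE @Etale f inferInstance V W h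
  algebraize [(f.appLE V W h).hom]
  exact (RingHom.quasiFinite_algebraMap ..).mpr inferInstance

/-- étale and quasi-compact over a locally artinian scheme is finite -/
theorem isFinite_of_etale {X Y : Scheme.{u}} (f : X ⟶ Y) [Etale f] [QuasiCompact f] [IsLocallyArtinian Y] :
    IsFinite f := by
  have := locallyQuasiFinite_of_etale f
  exact IsFinite.of_locallyQuasiFinite f

theorem isLocallyArtinian_of_etale {X Y : Scheme.{u}} (f : X ⟶ Y) [Etale f] [IsLocallyArtinian Y] :
    IsLocallyArtinian X := by
  have := locallyQuasiFinite_of_etale f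
  exact IsLocallyArtinian.of_locallyQuasiFinite f

/-- an étale chart with finite relation is finite -/
theorem repWith_isFinite {V R : Over S} {s t : R ⟶ V} {a : (yon S).obj V ⟶ X} (ha : RepWith @Etale a)
    (has : RepWith @Surjective a) (sq : IsPullback ((yon S).map t) ((yon S).map s) a a) (h : IsFinite s.left) :
    RepWith @IsFinite a := by
  have := K595.DescInst.isFinite.{u}
  have hF : FSurj a := (ESurj.of_repWith ha has).fSurj
  exact hF.repWith (Pr := @IsFinite) sq ha.1 ((repWith_yon_map_iff _ _).2 h)

/-- an étale chart with quasi-compact relation is quasi-compact -/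
theorem repWith_quasiCompact {V R : Over S} {s t : R ⟶ V} {a : (yon S).obj V ⟶ X} (ha : RepWith @Etale a)
    (has : RepWith @Surjective a) (sq : IsPullback ((yon S).map t) ((yon S).map s) a a) (h : QuasiCompact s.left) :
    RepWith @QuasiCompact a := by
  have := K595.DescInst.quasiCompact.{u}
  have hF : FSurj a := (ESurj.of_repWith ha has).fSurj
  exact hF.repWith (Pr := @QuasiCompact) sq ha.1 ((repWith_yon_map_iff _ _).2 h)

theorem repWith_flat_of_etale {Y : Sp S} {a : X ⟶ Y} (ha : RepWith @Etale a) : RepWith @Flat a :=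
  repWith_mono (fun _ _ f (_ : Etale f) => (inferInstance : Flat f)) ha

theorem repWith_lfp_of_etale {Y : Sp S} {a : X ⟶ Y} (ha : RepWith @Etale a) :
    RepWith @LocallyOfFinitePresentation a :=
  repWith_mono (fun _ _ f (_ : Etale f) => (inferInstance : LocallyOfFinitePresentation f)) ha

/-- finite étale surjective chart by a scheme, fibres in affine opens -/
theorem exists_iso_of_finiteEtale {V : Over S} {a : (yon S).obj V ⟶ X} (hf : RepWith @IsFinite a)
    (ha : RepWith @Etale a) (has : RepWith @Surjective a)
    (hb : ∀ x : V.left, ∃ W : V.left.Opens, IsAffineOpen W ∧ ∀ y : V.left, Points.ofPt a y = Points.ofPt a x → y ∈ W) :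
    ∃ (M : Over S) (m : V ⟶ M) (e : (yon S).obj M ≅ X), (yon S).map m ≫ e.hom = a ∧
      IsFinite m.left ∧ Etale m.left ∧ Surjective m.left ∧ (IsAffine V.left → IsAffine M.left) := by
  obtain ⟨M, m, e, he, h1, h2, h3⟩ := K610.FinQuot.exists_iso hf (repWith_flat_of_etale ha)
    (repWith_lfp_of_etale ha) has hb
  exact ⟨M, m, e, he, h1.1, K610.Coeq.prop_of_comp_iso (P := @Etale) e he ha, h2, h3⟩

theorem exists_iso_of_artinian {V R : Over S} {s t : R ⟶ V} {a : (yon S).obj V ⟶ X} (ha : RepWith @Etale a)
    (has : RepWith @Surjective a) (sq : IsPullback ((yon S).map t) ((yon S).map s) a a)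
    [IsAffine V.left] [IsLocallyArtinian V.left] (h : QuasiCompact s.left) :
    ∃ (M : Over S) (m : V ⟶ M) (e : (yon S).obj M ≅ X), (yon S).map m ≫ e.hom = a ∧
      IsFinite m.left ∧ Etale m.left ∧ Surjective m.left ∧ IsAffine M.left := by
  have h1 : Etale s.left := ha.2 _ _ _ sq
  have h2 : IsFinite s.left := isFinite_of_etale s.left
  obtain ⟨M, m, e, he, h3, h4, h5, h6⟩ := exists_iso_of_finiteEtale (repWith_isFinite ha has sq h2) ha has
    (fun x => ⟨⊤, isAffineOpen_top _, fun y _ => trivial⟩)
  exact ⟨M, m, e, he, h3, h4, h5, h6 inferInstance⟩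

end K610.ArtQuot
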