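import Mathlib.AlgebraicGeometry.Properties

/-!
# Points of schemes whose local ring has dimension zero
-/

set_option autoImplicit false
universe u
open CategoryTheory CategoryTheory.Limits AlgebraicGeometry

namespace K610.CodimZero

/-- Every point of a scheme is a specialisation of a point whose local ring has dimension zero. -/
theorem exists_specializes (Z : Scheme.{u}) (z : Z) :
    ∃ y : Z, y ⤳ z ∧ ringKrullDim (Z.presheaf.stalk y) = 0 := by
  obtain ⟨y, hy⟩ := QuasiSober.sober (isIrreducible_irreducibleComponent (x := z))
    isClosed_irreducibleComponent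
  have h1 : y ⤳ z := by
    rw [specializes_iff_mem_closure, hy.def]
    exact mem_irreducibleComponent
  refine ⟨y, h1, ?_⟩
  rw [ringKrullDim_stalk_eq_coheight]
  have : Order.coheight y = 0 := by
    rw [Order.coheight_eq_zero]
    intro w hw
    have hw' : w ⤳ y := Scheme.le_iff_specializes.1 hw
    have h2 : closure {w} = irreducibleComponent z :=
      eq_irreducibleComponent (isPreirreducible_singleton.closure) (by
        have : closure ({y} : Set Z) ⊆ closure {w} := hw'.closure_subset
        rwa [hy.def] at this)
    have h3 : y ∈ closure {w} := by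
      rw [h2, ← hy.def]
      exact subset_closure rfl
    have h4 : w ∈ closure {y} := by
      rw [hy.def, ← h2]
      exact subset_closure rfl
    exact Scheme.le_iff_specializes.2 (specializes_iff_mem_closure.2 h4)
  rw [this]
  rfl

theorem exists_mem_open {Z : Scheme.{u}} (O : Set Z) (hO : IsOpen O) (z : Z) (hz : z ∈ O) :
    ∃ y ∈ O, ringKrullDim (Z.presheaf.stalk y) = 0 := by
  obtain ⟨y, hy, hd⟩ := exists_specializes Z z
  exact ⟨y, hy.mem_open hO hz, hd⟩

/-- dimension zero means: no proper generisation -/
theorem ringKrullDim_eq_zero_iff {Z : Scheme.{u}} (z : Z) :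
    ringKrullDim (Z.presheaf.stalk z) = 0 ↔ ∀ y : Z, y ⤳ z → z ⤳ y := by
  rw [ringKrullDim_stalk_eq_coheight]
  have : ((Order.coheight z : WithBot ℕ∞) = 0) ↔ Order.coheight z = 0 := by
    rw [← WithBot.coe_zero, WithBot.coe_inj]
  rw [this, Order.coheight_eq_zero]
  constructor
  · intro h y hy
    exact Scheme.le_iff_specializes.1 (h (Scheme.le_iff_specializes.2 hy))
  · intro h y hy
    exact Scheme.le_iff_specializes.2 (h y (Scheme.le_iff_specializes.1 hy))

end K610.CodimZero
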