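import Groth.Agent.AlgSp.K610.ArtQuot

/-!
# Algebraic spaces étale over a field are schemes
-/

set_option autoImplicit false
universe u
open CategoryTheory CategoryTheory.Limits AlgebraicGeometry Opposite Topology
open AlgSp

namespace K610.EtField

open K610.Base K610.ArtQuot K610.SchLocus

variable {S : Scheme.{u}}

theorem exists_affine_nhd_chart {X : Sp S} {U : Over S} {p : (yon S).obj U ⟶ X} (hp : RepWith @Etale p)
    (u : U.left) :
    ∃ (V : Over S) (i : V ⟶ U) (v : V.left), IsAffine V.left ∧ IsOpenImmersion i.left ∧ i.left v = u ∧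
      RepWith @Etale ((yon S).map i ≫ p) := by
  obtain ⟨W, hW, huW, -⟩ : ∃ W : U.left.Opens, W ∈ U.left.affineOpens ∧ u ∈ W ∧ True := by
    obtain ⟨_, ⟨W, hW, rfl⟩, huW, -⟩ := (U.left.isBasis_affineOpens).exists_subset_of_mem_open
      (show u ∈ (⊤ : U.left.Opens) from trivial) (⊤ : U.left.Opens).2
    exact ⟨W, hW, huW, trivial⟩
  let i : Over.mk (W.ι ≫ U.hom) ⟶ U := Over.homMk W.ι
  have hi : IsOpenImmersion i.left := (inferInstance : IsOpenImmersion W.ι)
  refine ⟨_, i, ⟨u, huW⟩, hW, hi, rfl, ?_⟩
  exact MorphismProperty.comp_mem (RepWith @Etale) _ _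
    ((repWith_yon_map_iff _ _).2 (inferInstance : Etale W.ι)) hp

theorem isRepresentable_of_etale (X : Space S) {Z : Over S} [IsLocallyArtinian Z.left]
    [QuasiSeparatedSpace Z.left] [IsAffine Z.left]
    (f : X.obj ⟶ (yon S).obj Z) (hf : IsEtaleMor f) : X.obj.obj.IsRepresentable := by
  rw [isRepresentable_iff_forall]
  intro x
  obtain ⟨U, p, hp, hs⟩ := X.2.atlas
  obtain ⟨u, rfl⟩ := surjective_ofPt hs x
  obtain ⟨V, i, v, hV, hi, rfl, ha⟩ := exists_affine_nhd_chart hp u
  set a := (yon S).map i ≫ p with ha0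
  obtain ⟨X', j, hj, hr⟩ := K610.Sub.exists_open_subspace X (Set.range (Points.ofPt a))
    (isOpenMap_ofPt_etale ha).isOpen_range
  obtain ⟨a', h1, h2, h3⟩ := K610.OpenImm.exists_corestrict X.2 hj hr @Etale ha
  obtain ⟨R, s, t', sq⟩ := h2.1 a'
  obtain ⟨t, rfl⟩ := (yon S).map_surjective t'
  obtain ⟨g, hg⟩ := (yon S).map_surjective (a ≫ f)
  have hge : Etale g.left := by
    rw [← repWith_yon_map_iff @Etale g, hg]
    exact hf a ha
  have hVart : IsLocallyArtinian V.left := isLocallyArtinian_of_etale g.left
  have hgf : IsFinite g.left := isFinite_of_etale g.left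
  have hw : t ≫ g = s ≫ g := by
    apply (yon S).map_injective
    rw [Functor.map_comp, Functor.map_comp, hg, ← h1]
    have := sq.w
    simp only [← Category.assoc]
    rw [this]
  have hw' : t.left ≫ g.left = s.left ≫ g.left := congrArg CommaMorphism.left hw
  have hE := K610.FinQuot.isERel (K610.OpenImm.isEqvRel_of_isPullback sq)
  have hmono : Mono (pullback.lift t.left s.left hw') := by
    constructor
    intro T r r' h
    apply hE.mono
    · rw [← pullback.lift_fst t.left s.left hw', ← Category.assoc, h, Category.assoc]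
    · rw [← pullback.lift_snd t.left s.left hw', ← Category.assoc, h, Category.assoc]
  have hart : IsLocallyArtinian (pullback g.left g.left) :=
    isLocallyArtinian_of_etale (pullback.fst g.left g.left)
  have hcpt : CompactSpace (pullback g.left g.left : Scheme.{u}) := QuasiCompact.compactSpace_of_compactSpace (pullback.fst g.left g.left)
  have hfin : Finite (pullback g.left g.left : Scheme.{u}) := finite_of_compact_of_discrete
  have hinj : Function.Injective (pullback.lift t.left s.left hw') :=
    (pullback.lift t.left s.left hw').injective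
  have hRfin : Finite R.left := Finite.of_injective _ hinj
  have hqc : QuasiCompact s.left := (quasiCompact_iff_compactSpace s.left).2 inferInstance
  obtain ⟨M, m, e, he, -⟩ := exists_iso_of_artinian h2 h3 sq hqc
  refine ⟨_, (isSch_iff hj).2 (K610.ZarGlue.isRepresentable_iff.2 ⟨M, ⟨e⟩⟩), ?_⟩
  rw [hr]
  exact ⟨v, by rw [ha0, ofPt_map_comp]⟩

end K610.EtField
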