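import Groth.Agent.AlgSp.K610.ArtQuot

/-!
# Quotients of a field
-/

set_option autoImplicit false
universe u
open CategoryTheory CategoryTheory.Limits AlgebraicGeometry Opposite Topology
open AlgSp

namespace K610.FieldQuot

open K610.Base K610.ArtQuot

variable {S : Scheme.{u}}

theorem isPullback_of_comp_mono {A B C D E : Scheme.{u}} {p₁ : A ⟶ B} {p₂ : A ⟶ C} {f : B ⟶ D} {g : C ⟶ D} (j : D ⟶ E)
    [Mono j] (sq : IsPullback p₁ p₂ (f ≫ j) (g ≫ j)) : IsPullback p₁ p₂ f g := by
  have hw : p₁ ≫ f = p₂ ≫ g := by rw [← cancel_mono j, Category.assoc, Category.assoc, sq.w]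
  refine ⟨⟨hw⟩, ⟨PullbackCone.isLimitAux _ (fun s => sq.lift s.fst s.snd (by rw [reassoc_of% s.condition]))
    (fun s => sq.lift_fst _ _ _) (fun s => sq.lift_snd _ _ _) fun s m hm => ?_⟩⟩
  apply sq.hom_ext
  · rw [sq.lift_fst]; exact hm WalkingCospan.left
  · rw [sq.lift_snd]; exact hm WalkingCospan.right

/-- `Spec k ×_S Spec k` is affine -/
theorem isAffine_pullback {A B : Scheme.{u}} [IsAffine A] [IsAffine B] [Subsingleton A] [Subsingleton B] [Nonempty A] [Nonempty B]
    (f : A ⟶ S) (g : B ⟶ S) : IsAffine (pullback f g) := by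
  obtain ⟨a⟩ := ‹Nonempty A›
  obtain ⟨b⟩ := ‹Nonempty B›
  by_cases hab : f a = g b
  · obtain ⟨W, hW, haW, -⟩ : ∃ W : S.Opens, W ∈ S.affineOpens ∧ f a ∈ W ∧ True := by
      obtain ⟨_, ⟨W, hW, rfl⟩, huW, -⟩ := (S.isBasis_affineOpens).exists_subset_of_mem_open
        (show f a ∈ (⊤ : S.Opens) from trivial) (⊤ : S.Opens).2
      exact ⟨W, hW, huW, trivial⟩
    have h1 : Set.range f ⊆ Set.range W.ι := by
      rintro _ ⟨x, rfl⟩
      rw [Subsingleton.elim x a, Scheme.Opens.range_ι]
      exact haW
    have h2 : Set.range g ⊆ Set.range W.ι := by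
      rintro _ ⟨x, rfl⟩
      rw [Subsingleton.elim x b, Scheme.Opens.range_ι, ← hab]
      exact haW
    let f' := IsOpenImmersion.lift W.ι f h1
    let g' := IsOpenImmersion.lift W.ι g h2
    have hf' : f' ≫ W.ι = f := IsOpenImmersion.lift_fac _ _ _
    have hg' : g' ≫ W.ι = g := IsOpenImmersion.lift_fac _ _ _
    have sq : IsPullback (pullback.fst f g) (pullback.snd f g) (f' ≫ W.ι) (g' ≫ W.ι) := by
      rw [hf', hg']
      exact IsPullback.of_hasPullback f g
    have sq2 := isPullback_of_comp_mono _ sq
    have : IsAffine W := hW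
    exact .of_isIso sq2.isoPullback.hom
  · have : IsEmpty (pullback f g : Scheme.{u}) := by
      constructor
      intro x
      apply hab
      have h := congrArg (fun (z : pullback f g ⟶ S) => z x) (pullback.condition (f := f) (g := g))
      simp only [Scheme.Hom.comp_apply] at h
      rw [← Subsingleton.elim (pullback.fst f g x) a, h, Subsingleton.elim (pullback.snd f g x) b]
    infer_instance

/-- `X` quasi-separated, `Spec k ⟶ X` étale surjective: `X` is the spectrum of a subfield `k'` with `k / k'`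
finite étale. -/
theorem exists_field (X : Sp S) (hX : RepWith @QuasiCompact (Limits.diag X)) (k : Type u) [Field k]
    (str : Spec (CommRingCat.of k) ⟶ S)
    (p : (yon S).obj (Over.mk str) ⟶ X) (hp : RepWith @Etale p) (hs : RepWith @Surjective p) :
    ∃ (k' : Type u) (_ : Field k') (str' : Spec (CommRingCat.of k') ⟶ S)
      (e : (yon S).obj (Over.mk str') ≅ X) (c : Over.mk str ⟶ Over.mk str'),
      (yon S).map c ≫ e.hom = p ∧ IsFinite c.left ∧ Etale c.left := by
  obtain ⟨R, s, t', sq⟩ := hp.1 p
  obtain ⟨t, rfl⟩ := (yon S).map_surjective t'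
  have h1 := K609.Diag.prop_of_repWith_diag @QuasiCompact hX sq
  have i1 : IsAffine (Over.mk str).left := (inferInstance : IsAffine (Spec (CommRingCat.of k)))
  have i2 : Subsingleton (Over.mk str).left := (inferInstance : Subsingleton (PrimeSpectrum k))
  have i3 : Nonempty (Over.mk str).left := (inferInstance : Nonempty (PrimeSpectrum k))
  have i4 : IsAffine (pullback (Over.mk str).hom (Over.mk str).hom) := isAffine_pullback _ _
  have i5 : CompactSpace R.left := QuasiCompact.compactSpace_of_compactSpace (pullback.lift t.left s.left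
    ((Over.w t).trans (Over.w s).symm) : R.left ⟶ pullback (Over.mk str).hom (Over.mk str).hom)
  have i6 : QuasiCompact s.left := (quasiCompact_iff_compactSpace s.left).2 inferInstance
  have i7 : IsLocallyArtinian (Over.mk str).left :=
    Scheme.isLocallyArtinianScheme_Spec.2 (inferInstance : IsArtinianRing k)
  obtain ⟨M, m, e, he, h2, h3, h4, h5⟩ := exists_iso_of_artinian hp hs sq i6
  let B := Γ(M.left, ⊤)
  let q : Spec (CommRingCat.of k) ⟶ Spec B := m.left ≫ M.left.isoSpec.hom
  obtain ⟨φ, hφ⟩ := Spec.map_surjective q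
  have hq : Flat q ∧ Surjective q := by
    have : Flat m.left := inferInstance
    constructor
    · exact (inferInstance : Flat (m.left ≫ M.left.isoSpec.hom))
    · exact (inferInstance : Surjective (m.left ≫ M.left.isoSpec.hom))
  rw [← hφ, flat_and_surjective_SpecMap_iff] at hq
  have hqf : IsFinite q := (inferInstance : IsFinite (m.left ≫ M.left.isoSpec.hom))
  rw [← hφ] at hqf
  have hfin : φ.hom.Finite := (IsFinite.SpecMap_iff _).1 hqf
  have hfield : IsField B := by
    algebraize [φ.hom]
    have hinj : Function.Injective (algebraMap B k) := RingHom.FaithfullyFlat.injective hq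
    exact isField_of_isIntegral_of_isField hinj (Field.toIsField k)
  let _ : Field B := hfield.toField
  let M' : Over S := Over.mk (M.left.isoSpec.inv ≫ M.hom)
  let θ : M' ≅ M := Over.isoMk M.left.isoSpec.symm (by simp [M'])
  refine ⟨B, inferInstance, M.left.isoSpec.inv ≫ M.hom, (yon S).mapIso θ ≪≫ e, m ≫ θ.inv, ?_, ?_, ?_⟩
  · simp [he]
  · exact (inferInstance : IsFinite (m.left ≫ M.left.isoSpec.hom))
  · exact (inferInstance : Etale (m.left ≫ M.left.isoSpec.hom))

end K610.FieldQuot
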