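import Groth.Agent.AlgSp.K610.InvOpen
import Groth.Agent.AlgSp.K610.ArtQuot
import Groth.Agent.AlgSp.K610.CodimZero
import Groth.Agent.AlgSp.K621.Generic
import Groth.Agent.Smoothlim.GenFinSch
import Mathlib.AlgebraicGeometry.Morphisms.QuasiFinite

/-!
# Codimension zero points and the schematic locus
-/

set_option autoImplicit false
universe u
open CategoryTheory CategoryTheory.Limits AlgebraicGeometry Opposite Topology TopologicalSpace
open AlgSp

namespace K610.GenericSch

open K610.Base K610.SchLocus K610.InvOpen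

variable {S : Scheme.{u}}

/-- finitely many generic points of a quasi-separated scheme lie in an affine open -/
theorem exists_isAffineOpen {X : Scheme.{u}} [QuasiSeparatedSpace X] (E : Set X) (hE : E.Finite)
    (h : ∀ x ∈ E, ∀ y, y ⤳ x → y = x) : ∃ U : X.Opens, IsAffineOpen U ∧ E ⊆ U :=
  Groth.Agent.Smoothlim.GenFinSch.exists_isAffineOpen_of_separated E hE fun x hx y hy hxy =>
    Groth.Agent.Smoothlim.GenFinSch.exists_separation x y (h x hx) (h y hy) hxy

/-- fibres of finite charts are finite -/
theorem finite_fibre {X : Sp S} {U : Over S} {a : (yon S).obj U ⟶ X} (h1 : RepWith @IsFinite a) (u : U.left) :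
    {y : U.left | Points.ofPt a y = Points.ofPt a u}.Finite := by
  obtain ⟨R, s, t', sq⟩ := h1.1 a
  obtain ⟨t, rfl⟩ := (yon S).map_surjective t'
  have i1 : IsFinite s.left := h1.2 a _ _ sq
  refine ((s.left.finite_preimage_singleton u).image t.left).subset ?_
  intro y hy
  obtain ⟨r, hr1, hr2⟩ := exists_of_isPullback_charts sq y u hy
  exact ⟨r, hr2, hr1⟩

theorem mem_locus_of_codimZero {X : Space S} {U : Over S} {a : (yon S).obj U ⟶ X.obj} (h1 : RepWith @IsFinite a)
    (h2 : RepWith @Etale a) (h4 : RepWith @Surjective a) [QuasiSeparatedSpace U.left] {x : Points X.obj}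
    (hx : K621.Generic.CodimZero X.obj x) : x ∈ locus X := by
  obtain ⟨u, rfl⟩ := surjective_ofPt h4 x
  obtain ⟨V, hV, hu⟩ := exists_isAffineOpen _ (finite_fibre h1 u) (fun y hy => by
    rw [Set.mem_ofPred_eq] at hy
    rw [← hy] at hx
    exact (K621.Generic.codimZero_iff X.2 h2).1 hx)
  exact exists_isSch h1 (K610.ArtQuot.repWith_flat_of_etale h2) (K610.ArtQuot.repWith_lfp_of_etale h2) h4 u V hV
    (fun y hy => hu hy)

/-- if the codimension zero points are in an open subset, it is dense -/
theorem dense_of_codimZero {X : Space S} {W : Set (Points X.obj)}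
    (h : ∀ x, K621.Generic.CodimZero X.obj x → x ∈ W) : Dense W := by
  intro x
  obtain ⟨U, p, hp, hs⟩ := X.2.atlas
  rw [mem_closure_iff]
  intro O hO hx
  obtain ⟨u, rfl⟩ := surjective_ofPt hs x
  obtain ⟨y, hy, hd⟩ := K610.CodimZero.exists_mem_open _ (hO.preimage (Points.continuous_ofPt p)) u hx
  exact ⟨_, hy, h _ ⟨U, p, y, hp, rfl, hd⟩⟩

end K610.GenericSch
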