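import Groth.Agent.AlgSp.K610.QsChart
import Groth.Agent.AlgSp.K610.GenericSch

/-!
# Étale charts with quasi-compact relation are finite over a neighbourhood of codimension zero points
-/

set_option autoImplicit false
universe u
open CategoryTheory CategoryTheory.Limits AlgebraicGeometry Opposite Topology TopologicalSpace
open AlgSp

namespace K610.FinLocus

open K610.Base K610.SchLocus K610.Sub K613.Cover

variable {S : Scheme.{u}}

theorem isSch_image {X Z : Sp S} {j : Z ⟶ X} (hj : RepWith @IsOpenImmersion j) {W : Set (Points Z)}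
    (hW : IsSch Z W) : IsSch X (Points.map j '' W) := by
  obtain ⟨H, f, hf, rfl⟩ := hW
  refine ⟨H, f ≫ j, MorphismProperty.comp_mem (RepWith @IsOpenImmersion) _ _ hf hj, ?_⟩
  ext x
  constructor
  · rintro ⟨t, rfl⟩
    exact ⟨_, ⟨t, rfl⟩, rfl⟩
  · rintro ⟨_, ⟨t, rfl⟩, rfl⟩
    exact ⟨t, rfl⟩

theorem map_mem_locus {X Z : Space S} {j : Z ⟶ X} (hj : RepWith @IsOpenImmersion j.hom) {x : Points Z.obj}
    (hx : x ∈ locus Z) : Points.map j.hom x ∈ locus X :=
  (isSch_image hj (isSch_locus Z)).subset_locus ⟨x, hx, rfl⟩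

/-- the chart becomes finite over the open subspace of `X` under an open of `U` over which the relation is finite -/
theorem exists_finite_over {X : Space S} {U R : Over S} {a : (yon S).obj U ⟶ X.obj} (ha : RepWith @Etale a)
    {s t : R ⟶ U} (sq : IsPullback ((yon S).map t) ((yon S).map s) a a) (V : U.left.Opens)
    (hV : IsFinite (s.left ∣_ V)) :
    ∃ (X' : Space S) (j : X' ⟶ X) (U' : Over S) (v : U' ⟶ U) (b : (yon S).obj U' ⟶ X'.obj),
      RepWith @IsOpenImmersion j.hom ∧ Set.range (Points.map j.hom) = Points.ofPt a '' (V : Set U.left) ∧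
      IsOpenImmersion v.left ∧ IsPullback b ((yon S).map v) j.hom a ∧
      RepWith @IsFinite b ∧ RepWith @Etale b ∧ RepWith @Surjective b := by
  obtain ⟨X', j, hj, hr⟩ := exists_open_subspace X (Points.ofPt a '' (V : Set U.left))
    ((isOpenMap_ofPt_etale ha) _ V.2)
  have hm := K610.Factor.mono_of_isOpenImmersion hj
  obtain ⟨U', v, b, sqb⟩ := hj.1 a
  have hv : IsOpenImmersion v.left := hj.2 a _ _ sqb
  have hb : RepWith @Etale b := MorphismProperty.of_isPullback (P := RepWith @Etale) sqb.flip ha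
  -- the chart V
  let V' : Over S := Over.mk (V.ι ≫ U.hom)
  let i : V' ⟶ U := Over.homMk V.ι
  let c := (yon S).map i ≫ a
  have hc : RepWith @Etale c := MorphismProperty.comp_mem (RepWith @Etale) _ _
    ((repWith_yon_map_iff _ _).2 (inferInstance : Etale V.ι)) ha
  have hcr : Set.range (Points.map j.hom) = Set.range (Points.ofPt c) := by
    rw [hr]
    ext x
    constructor
    · rintro ⟨y, hy, rfl⟩
      exact ⟨⟨y, hy⟩, ofPt_map_comp i a _⟩
    · rintro ⟨y, rfl⟩
      exact ⟨V.ι y, y.2, (ofPt_map_comp i a _).symm⟩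
  obtain ⟨c', hc1, hc2, hc3⟩ := K610.OpenImm.exists_corestrict X.2 hj hcr @Etale hc
  -- surjectivity of b
  have hbs : RepWith @Surjective b := by
    apply repWith_surjective_of_points hb.1
    intro x
    have hx : Points.map j.hom x ∈ Points.ofPt a '' (V : Set U.left) := hr ▸ ⟨x, rfl⟩
    obtain ⟨y, -, hy⟩ := hx
    obtain ⟨w, hw, -⟩ := exists_of_isPullback_yon sqb x y hy.symm
    exact ⟨Points.ofScheme U' w, by rw [← Points.ofPt_eq_map_ofScheme]; exact hw⟩
  -- the relation over V
  let Q : Over S := Over.mk ((s.left ⁻¹ᵁ V).ι ≫ R.hom)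
  let q : Q ⟶ R := Over.homMk (s.left ⁻¹ᵁ V).ι
  let q' : Q ⟶ V' := Over.homMk (s.left ∣_ V) (by
    change (s.left ∣_ V) ≫ V.ι ≫ U.hom = (s.left ⁻¹ᵁ V).ι ≫ R.hom
    rw [← Category.assoc, morphismRestrict_ι, Category.assoc, Over.w])
  have sqV : IsPullback ((yon S).map q) ((yon S).map q') ((yon S).map s) ((yon S).map i) :=
    K610.Coeq.isPullback_yon (isPullback_morphismRestrict s.left V).flip
  have big : IsPullback ((yon S).map q ≫ (yon S).map t) ((yon S).map q') a ((yon S).map i ≫ a) :=
    (sqV.flip.paste_vert sq.flip).flip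
  have big' : IsPullback ((yon S).map q ≫ (yon S).map t) ((yon S).map q') a (c' ≫ j.hom) := by
    rw [hc1]
    exact big
  have hp : c' ≫ j.hom = (yon S).map i ≫ a := hc1
  let p : (yon S).obj Q ⟶ (yon S).obj U' := sqb.lift ((yon S).map q' ≫ c') ((yon S).map q ≫ (yon S).map t) (by
    rw [Category.assoc, hp]
    exact big.w.symm)
  have hp1 : p ≫ b = (yon S).map q' ≫ c' := sqb.lift_fst _ _ _
  have hp2 : p ≫ (yon S).map v = (yon S).map q ≫ (yon S).map t := sqb.lift_snd _ _ _
  have sqp : IsPullback p ((yon S).map q') b c' := by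
    apply IsPullback.of_right (h₁₂ := (yon S).map v) (h₂₂ := j.hom) (v₁₃ := a) _ hp1 sqb.flip
    rw [hp2]
    exact big'
  have hfin : RepWith @IsFinite b := by
    have := K595.DescInst.isFinite.{u}
    have hF : FSurj c' := (ESurj.of_repWith hc2 hc3).fSurj
    exact hF.repWith (Pr := @IsFinite) sqp hb.1 ((repWith_yon_map_iff _ _).2 hV)
  exact ⟨X', j, U', v, b, hj, hr, hv, sqb, hfin, hb, hbs⟩

theorem mem_locus_of_quasiCompact {X : Space S} {U R : Over S} {a : (yon S).obj U ⟶ X.obj} (ha : RepWith @Etale a)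
    {s t : R ⟶ U} (sq : IsPullback ((yon S).map t) ((yon S).map s) a a) [IsAffine U.left]
    (hs : QuasiCompact s.left) (u : U.left) (hu : ∀ y, y ⤳ u → y = u) : Points.ofPt a u ∈ locus X := by
  have hqs := K610.QsChart.quasiSeparatedSpace_rel sq
  have hse : Etale s.left := ha.2 a _ _ sq
  have := K610.ArtQuot.locallyQuasiFinite_of_etale s.left
  obtain ⟨V, hV, huV, hfin⟩ := Groth.Agent.Smoothlim.GenFinSch.exists_isFinite_affine_of_sep s.left u hu
    (s.left.finite_preimage_singleton u) ⊤ (isAffineOpen_top _) trivial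
    (fun x y hx hy _ _ hxy => Groth.Agent.Smoothlim.GenFinSch.exists_separation x y hx hy hxy)
  obtain ⟨X', j, U', v, b, hj, hr, hv, sqb, hb1, hb2, hb3⟩ := exists_finite_over ha sq V hfin
  have hx : Points.ofPt a u ∈ Set.range (Points.map j.hom) := by
    rw [hr]
    exact ⟨u, huV, rfl⟩
  obtain ⟨x', hx'⟩ := hx
  obtain ⟨u', rfl, hu'⟩ := exists_of_isPullback_yon sqb x' u hx'
  have hUqs : QuasiSeparatedSpace U'.left := quasiSeparatedSpace_of_quasiSeparated v.left
  have hcod : K621.Generic.CodimZero X'.obj (Points.ofPt b u') := by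
    rw [K621.Generic.codimZero_iff X'.2 hb2]
    intro w hw
    apply v.left.isOpenEmbedding.injective
    rw [hu']
    apply hu
    rw [← hu']
    exact hw.map v.left.continuous
  have := K610.GenericSch.mem_locus_of_codimZero hb1 hb2 hb3 hcod
  rw [← hx']
  exact map_mem_locus hj this

/-- small affine étale charts exist around every point -/
theorem exists_small_chart (X : Space S) (x : Points X.obj) : ∃ (V : Over S) (a : (yon S).obj V ⟶ X.obj) (v : V.left),
    K610.QsChart.Small V ∧ RepWith @Etale a ∧ Points.ofPt a v = x := by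
  obtain ⟨U, p, hp, hs⟩ := X.2.atlas
  obtain ⟨u, rfl⟩ := surjective_ofPt hs x
  obtain ⟨V, huV, hV, W, hW, hVW⟩ := K610.QsChart.exists_small u
  let i : Over.mk (V.ι ≫ U.hom) ⟶ U := Over.homMk V.ι
  refine ⟨_, (yon S).map i ≫ p, ⟨u, huV⟩, ⟨hV, W, hW, hVW⟩, ?_, ?_⟩
  · exact MorphismProperty.comp_mem (RepWith @Etale) _ _
      ((repWith_yon_map_iff _ _).2 (inferInstance : Etale V.ι)) hp
  · rw [ofPt_map_comp]
    rfl

/-- a space with quasi-compact diagonal: codimension zero points are in the schematic locus -/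
theorem mem_locus_of_quasiSeparated {X : Space S} (hX : RepWith @QuasiCompact (Limits.diag X.obj))
    {x : Points X.obj} (hx : K621.Generic.CodimZero X.obj x) : x ∈ locus X := by
  obtain ⟨V, a, v, hV, ha, rfl⟩ := exists_small_chart X x
  obtain ⟨R, s, t', sq⟩ := ha.1 a
  obtain ⟨t, rfl⟩ := (yon S).map_surjective t'
  have hqc := K610.QsChart.quasiCompact_rel hX sq hV
  have := hV.1
  exact mem_locus_of_quasiCompact ha sq hqc _ ((K621.Generic.codimZero_iff X.2 ha).1 hx)

end K610.FinLocus
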