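import Groth.Agent.AlgSp.K610.FpqcSep
import Groth.Agent.AlgSp.K610.Base
import Groth.Agent.Desc.K388.IndEff
import Groth.Agent.S1402

/-!
# The descent datum of the pullback of a chart along a map with fpqc descent datum

`π : T' ⟶ T` over `S`, `f' : h_{T'} ⟶ F` with equal restrictions to `T' ×_T T'`, `a : h_U ⟶ F`, `V' = T' ×_F U`.
Then `V'` has a descent datum relative to `π`.
-/

set_option autoImplicit false
universe u
open CategoryTheory CategoryTheory.Limits AlgebraicGeometry Opposite Topology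
open AlgSp Desc

namespace K610.FpqcDD

open K613.Basic K613.Chart

variable {S : Scheme.{u}} {F : Sp S} {T T' U V' : Over S} (π : T' ⟶ T) (f' : (yon S).obj T' ⟶ F)
  (a : (yon S).obj U ⟶ F) (u' : V' ⟶ U) (v' : V' ⟶ T')

/-- the hypotheses -/
structure Data : Prop where
  hf : ∀ (R : Over S) (x y : R ⟶ T'), x ≫ π = y ≫ π → (yon S).map x ≫ f' = (yon S).map y ≫ f'
  sq : IsPullback ((yon S).map u') ((yon S).map v') a f'

variable {π f' a u' v'}

theorem Data.joint_mono (h : Data π f' a u' v') {R : Scheme.{u}} (w w' : R ⟶ V'.left)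
    (h1 : w ≫ u'.left = w' ≫ u'.left) (h2 : w ≫ v'.left = w' ≫ v'.left) : w = w' := by
  have e0 : w' ≫ V'.hom = w ≫ V'.hom := by
    rw [← Over.w v', ← Category.assoc, ← Category.assoc, h2]
  let R' : Over S := Over.mk (w ≫ V'.hom)
  let a₁ : R' ⟶ V' := Over.homMk w
  let a₂ : R' ⟶ V' := Over.homMk w' e0
  have : a₁ = a₂ := by
    apply (yon S).map_injective
    apply h.sq.hom_ext
    · rw [← Functor.map_comp, ← Functor.map_comp]
      congr 1
      exact Over.OverMorphism.ext h1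
    · rw [← Functor.map_comp, ← Functor.map_comp]
      congr 1
      exact Over.OverMorphism.ext h2
  exact congrArg CommaMorphism.left this

theorem Data.exists_trans (h : Data π f' a u' v') {R : Scheme.{u}} (x₀ x₁ : R ⟶ T'.left)
    (hx : x₀ ≫ π.left = x₁ ≫ π.left) (w : R ⟶ V'.left) (hw : w ≫ v'.left = x₀) :
    ∃ w₁ : R ⟶ V'.left, w₁ ≫ v'.left = x₁ ∧ w₁ ≫ u'.left = w ≫ u'.left := by
  have e0 : x₀ ≫ T'.hom = x₁ ≫ T'.hom := by
    rw [← Over.w π, ← Category.assoc, ← Category.assoc, hx]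
  have e1 : w ≫ V'.hom = x₁ ≫ T'.hom := by
    rw [← e0, ← hw, Category.assoc, Over.w]
  let R' : Over S := Over.mk (x₁ ≫ T'.hom)
  let y₁ : R' ⟶ T' := Over.homMk x₁
  let y₀ : R' ⟶ T' := Over.homMk x₀ e0
  let ww : R' ⟶ V' := Over.homMk w e1
  have h1 : ww ≫ v' = y₀ := Over.OverMorphism.ext hw
  have h2 : y₀ ≫ π = y₁ ≫ π := Over.OverMorphism.ext hx
  have h3 : (yon S).map (ww ≫ u') ≫ a = (yon S).map y₁ ≫ f' := by
    rw [← h.hf R' y₀ y₁ h2, ← h1, Functor.map_comp, Functor.map_comp, Category.assoc, Category.assoc, h.sq.w]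
  obtain ⟨z, hz⟩ := (yon S).map_surjective (h.sq.lift _ _ h3)
  have e2 : z ≫ u' = ww ≫ u' := by
    apply (yon S).map_injective
    rw [Functor.map_comp, hz, h.sq.lift_fst]
  have e3 : z ≫ v' = y₁ := by
    apply (yon S).map_injective
    rw [Functor.map_comp, hz, h.sq.lift_snd]
  exact ⟨z.left, congrArg CommaMorphism.left e3, congrArg CommaMorphism.left e2⟩

/-- points of `V'` over a point of `T'` -/
abbrev Pt (v' : V' ⟶ T') {R : Scheme.{u}} (x : R ⟶ T'.left) : Type u := {w : R ⟶ V'.left // w ≫ v'.left = x}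

theorem Data.pt_ext (h : Data π f' a u' v') {R : Scheme.{u}} {x : R ⟶ T'.left} (w w' : Pt v' x)
    (h1 : w.1 ≫ u'.left = w'.1 ≫ u'.left) : w = w' :=
  Subtype.ext (h.joint_mono _ _ h1 (w.2.trans w'.2.symm))

/-- transport -/
noncomputable def Data.tr (h : Data π f' a u' v') {R : Scheme.{u}} (x₀ x₁ : R ⟶ T'.left)
    (hx : x₀ ≫ π.left = x₁ ≫ π.left) (w : Pt v' x₀) : Pt v' x₁ :=
  ⟨(h.exists_trans x₀ x₁ hx w.1 w.2).choose, (h.exists_trans x₀ x₁ hx w.1 w.2).choose_spec.1⟩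

theorem Data.tr_u (h : Data π f' a u' v') {R : Scheme.{u}} (x₀ x₁ : R ⟶ T'.left)
    (hx : x₀ ≫ π.left = x₁ ≫ π.left) (w : Pt v' x₀) : (h.tr x₀ x₁ hx w).1 ≫ u'.left = w.1 ≫ u'.left :=
  (h.exists_trans x₀ x₁ hx w.1 w.2).choose_spec.2

/-- the descent datum of `T' ×_F U` -/
noncomputable def Data.dd (h : Data π f' a u' v') : SchDD π.left where
  obj := Over.mk v'.left
  φ R x₀ x₁ hx :=
    { toFun := h.tr x₀ x₁ hx
      invFun := h.tr x₁ x₀ hx.symm
      left_inv := fun w => h.pt_ext _ _ ((h.tr_u x₁ x₀ hx.symm (h.tr x₀ x₁ hx w)).trans (h.tr_u x₀ x₁ hx w))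
      right_inv := fun w => h.pt_ext _ _ ((h.tr_u x₀ x₁ hx (h.tr x₁ x₀ hx.symm w)).trans (h.tr_u x₁ x₀ hx.symm w)) }
  φ_natural R R' g x₀ x₁ hx hx' w w' hw := h.joint_mono _ _ (by
    refine (h.tr_u (g ≫ x₀) (g ≫ x₁) hx' w').trans ?_
    have e1 := h.tr_u x₀ x₁ hx w
    rw [hw, Category.assoc]
    refine (congrArg (g ≫ ·) e1.symm).trans ?_
    exact (Category.assoc _ _ _).symm) (by
    refine (h.tr (g ≫ x₀) (g ≫ x₁) hx' w').2.trans ?_
    refine (congrArg (g ≫ ·) (h.tr x₀ x₁ hx w).2.symm).trans ?_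
    exact (Category.assoc _ _ _).symm)
  φ_self R x w := h.pt_ext _ _ (h.tr_u x x rfl w)
  φ_comp R x₀ x₁ x₂ h₀₁ h₁₂ w := h.pt_ext _ _
    ((h.tr_u x₁ x₂ h₁₂ (h.tr x₀ x₁ h₀₁ w)).trans
      ((h.tr_u x₀ x₁ h₀₁ w).trans (h.tr_u x₀ x₂ (h₀₁.trans h₁₂) w).symm))

/-- effectivity: the pullback of the chart descends -/
theorem Data.exists_descent (h : Data π f' a u' v') [IsAffine T'.left] [IsAffine T.left] [Flat π.left]
    [Surjective π.left] (hv : MoreMor.IsIndQuasiAffineHom v'.left) :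
    ∃ (V : Over S) (v : V ⟶ T) (c : V' ⟶ V) (w : V ⟶ U), IsPullback c v' v π ∧ c ≫ w = u' := by
  obtain ⟨V₀, ⟨e⟩⟩ := K388.IndEff.effective_of_affine h.dd hv
  let q : pullback π.left V₀.hom ⟶ V'.left := e.hom.hom.left
  let r : V'.left ⟶ pullback π.left V₀.hom := e.inv.hom.left
  have hqr : q ≫ r = 𝟙 _ := by
    have h1 := congrArg SchDD.Hom.hom e.hom_inv_id
    exact congrArg CommaMorphism.left h1
  have hrq : r ≫ q = 𝟙 _ := by
    have h1 := congrArg SchDD.Hom.hom e.inv_hom_id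
    exact congrArg CommaMorphism.left h1
  have hq : q ≫ v'.left = pullback.fst π.left V₀.hom := Over.w e.hom.hom
  have hr : r ≫ pullback.fst π.left V₀.hom = v'.left := Over.w e.inv.hom
  have hsw : pullback.snd π.left V₀.hom ≫ V₀.hom ≫ T.hom = q ≫ V'.hom := by
    rw [← Over.w v', ← Over.w π, reassoc_of% hq, ← Category.assoc, ← pullback.condition, Category.assoc]
  -- descent of `u'`
  have hcoc : ∀ {R : Scheme.{u}} (x y : R ⟶ pullback π.left V₀.hom),
      x ≫ pullback.snd π.left V₀.hom = y ≫ pullback.snd π.left V₀.hom → x ≫ q ≫ u'.left = y ≫ q ≫ u'.left := by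
    intro R x y hxy
    have h01 : (x ≫ pullback.fst π.left V₀.hom) ≫ π.left = (y ≫ pullback.fst π.left V₀.hom) ≫ π.left := by
      rw [Category.assoc, Category.assoc, pullback.condition, reassoc_of% hxy]
    have hw : (x ≫ q) ≫ v'.left = x ≫ pullback.fst π.left V₀.hom := by rw [Category.assoc, hq]
    have h2 := e.hom.comm (x ≫ pullback.fst π.left V₀.hom) (y ≫ pullback.fst π.left V₀.hom) h01
      ⟨x, rfl⟩ ⟨x ≫ q, hw⟩ rfl
    have h3 : (((toDD π.left).obj V₀).φ (x ≫ pullback.fst π.left V₀.hom) (y ≫ pullback.fst π.left V₀.hom) h01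
        ⟨x, rfl⟩).1 = y := by
      apply pullback.hom_ext
      · exact pullback.lift_fst _ _ _
      · exact (pullback.lift_snd _ _ _).trans hxy
    rw [h3] at h2
    have h4 := h.tr_u (x ≫ pullback.fst π.left V₀.hom) (y ≫ pullback.fst π.left V₀.hom) h01 ⟨x ≫ q, hw⟩
    have h5 : (h.tr (x ≫ pullback.fst π.left V₀.hom) (y ≫ pullback.fst π.left V₀.hom) h01 ⟨x ≫ q, hw⟩).1 = y ≫ q := h2
    rw [h5, Category.assoc, Category.assoc] at h4
    exact h4.symm
  have hflat : Flat (pullback.snd π.left V₀.hom) := inferInstance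
  have hsurj : Surjective (pullback.snd π.left V₀.hom) := inferInstance
  have hqc : QuasiCompact (pullback.snd π.left V₀.hom) := inferInstance
  have hee : EffectiveEpi (pullback.snd π.left V₀.hom) := inferInstance
  let w₀ : V₀.left ⟶ U.left := EffectiveEpi.desc (pullback.snd π.left V₀.hom) (q ≫ u'.left) hcoc
  have hw₀ : pullback.snd π.left V₀.hom ≫ w₀ = q ≫ u'.left := EffectiveEpi.fac _ _ _
  have hw₁ : w₀ ≫ U.hom = V₀.hom ≫ T.hom := by
    rw [← cancel_epi (pullback.snd π.left V₀.hom), ← Category.assoc, hw₀, Category.assoc, Over.w, hsw]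
  have hc : (r ≫ pullback.snd π.left V₀.hom) ≫ V₀.hom ≫ T.hom = V'.hom := by
    rw [Category.assoc, hsw, reassoc_of% hrq]
  let V : Over S := Over.mk (V₀.hom ≫ T.hom)
  let v : V ⟶ T := Over.homMk V₀.hom
  let c : V' ⟶ V := Over.homMk (r ≫ pullback.snd π.left V₀.hom) hc
  let w : V ⟶ U := Over.homMk w₀ hw₁
  refine ⟨V, v, c, w, ?_, ?_⟩
  · have hsq : IsPullback c.left v'.left v.left π.left := by
      refine (IsPullback.of_hasPullback π.left V₀.hom).flip.of_iso ⟨q, r, hqr, hrq⟩ (Iso.refl _) (Iso.refl _)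
        (Iso.refl _) ?_ ?_ ?_ ?_
      · change pullback.snd π.left V₀.hom ≫ 𝟙 _ = q ≫ r ≫ pullback.snd π.left V₀.hom
        rw [reassoc_of% hqr, Category.comp_id]
      · change pullback.fst π.left V₀.hom ≫ 𝟙 _ = q ≫ v'.left
        rw [hq, Category.comp_id]
      · change V₀.hom ≫ 𝟙 _ = 𝟙 _ ≫ V₀.hom
        simp
      · change π.left ≫ 𝟙 _ = 𝟙 _ ≫ π.left
        simp
    exact IsPullback.of_map (Over.forget S) (Over.OverMorphism.ext hsq.w) hsq
  · apply Over.OverMorphism.ext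
    change (r ≫ pullback.snd π.left V₀.hom) ≫ w₀ = u'.left
    rw [Category.assoc, hw₀, reassoc_of% hrq]

end K610.FpqcDD
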