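import Groth.Agent.AlgSp.K613.Chart
import Mathlib.AlgebraicGeometry.Morphisms.FlatDescent
import Mathlib.AlgebraicGeometry.Sites.Fpqc

/-!
# Sheaves with representable diagonal are separated for fpqc coverings
-/

set_option autoImplicit false
universe u
open CategoryTheory CategoryTheory.Limits AlgebraicGeometry Opposite Topology
open AlgSp

namespace K610.FpqcSep

open K613.Basic K613.Chart

variable {S : Scheme.{u}} {F : Sp S}

/-- a monomorphism through which a flat surjective quasi-compact morphism factors is an isomorphism -/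
theorem isIso_of_factor {E T T' : Scheme.{u}} (e : E ⟶ T) [Mono e] (π : T' ⟶ T) [Flat π] [Surjective π]
    [QuasiCompact π] (k : T' ⟶ E) (hk : k ≫ e = π) : IsIso e := by
  have sq := IsPullback.of_hasPullback π e
  have hm : Mono (pullback.fst π e) := inferInstance
  have hs : pullback.lift (𝟙 T') k (by rw [Category.id_comp, hk]) ≫ pullback.fst π e = 𝟙 T' := pullback.lift_fst _ _ _
  have hse : IsSplitEpi (pullback.fst π e) := ⟨⟨⟨_, hs⟩⟩⟩
  have hi : IsIso (pullback.fst π e) := isIso_of_mono_of_isSplitEpi _
  exact MorphismProperty.of_isPullback_of_descendsAlong (P := MorphismProperty.isomorphisms Scheme.{u})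
    (Q := @Surjective ⊓ @Flat ⊓ @QuasiCompact) sq ⟨⟨‹_›, ‹_›⟩, ‹_›⟩ hi

theorem isIso_of_left {V T : Over S} (i : V ⟶ T) (h : IsIso i.left) : IsIso i := by
  have : IsIso ((Over.forget S).map i) := h
  exact isIso_of_reflects_iso i (Over.forget S)

theorem fpqc_sep (hF : Representable (Limits.diag F)) {T' T : Over S} (π : T' ⟶ T) [Flat π.left]
    [Surjective π.left] [QuasiCompact π.left] (g₁ g₂ : (yon S).obj T ⟶ F)
    (h : (yon S).map π ≫ g₁ = (yon S).map π ≫ g₂) : g₁ = g₂ := by
  obtain ⟨E, e, he⟩ := representable_diag_iff.1 hF T g₁ g₂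
  obtain ⟨k, hk, -⟩ := he.lift T' π h
  have hm := he.mono
  have hm' : Mono e.left := (inferInstance : Mono ((Over.forget S).map e))
  have hi : IsIso e.left := isIso_of_factor e.left π.left k.left (congrArg CommaMorphism.left hk)
  have hi' := isIso_of_left e hi
  rw [← cancel_epi ((yon S).map e)]
  exact he.w

end K610.FpqcSep
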