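import Groth.Agent.AlgSp.K610.FpqcDD
import Groth.Agent.AlgSp.K610.ZarGlue
import Groth.Agent.AlgSp.K610.ArtQuot
import Groth.Agent.AlgSp.K609.Sep
import Groth.Agent.Adeq.K569.FpqcSh
import Mathlib.AlgebraicGeometry.Morphisms.LocalFlatDescent

/-!
# Algebraic spaces are fpqc sheaves
-/

set_option autoImplicit false
universe u
open CategoryTheory CategoryTheory.Limits AlgebraicGeometry Opposite Topology
open AlgSp

namespace K610.FpqcSheaf

open K610.Base K613.Basic K610.FpqcDD K610.FpqcSep K610.ZarGlue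

variable {S : Scheme.{u}}

theorem isSeparated_of_isAffine {A B : Scheme.{u}} [IsAffine A] (f : A ⟶ B) : IsSeparated f := by
  have h : IsSeparated (f ≫ terminal.from B) := by
    rw [terminal.comp_from]
    infer_instance
  exact IsSeparated.of_comp f (terminal.from B)

/-- étale charts by affine schemes: pullbacks are ind-quasi-affine -/
theorem indQuasiAffine {X : Sp S} {U T' V' : Over S} [IsAffine U.left] {a : (yon S).obj U ⟶ X}
    (ha : RepWith @Etale a) {f' : (yon S).obj T' ⟶ X} {u' : V' ⟶ U} {v' : V' ⟶ T'}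
    (sq : IsPullback ((yon S).map u') ((yon S).map v') a f') : MoreMor.IsIndQuasiAffineHom v'.left := by
  have h1 : IsSeparated U.hom := isSeparated_of_isAffine _
  have h2 : IsSeparated v'.left := K609.Sep.isSeparated_snd_left sq
  have h3 : Etale v'.left := ha.2 f' _ _ sq
  have h4 := K610.ArtQuot.locallyQuasiFinite_of_etale v'.left
  exact Groth.Agent.S1402.result v'.left

theorem exists_glue (X : Space S) {T T' : Over S} (π : T' ⟶ T) [IsAffine T'.left] [IsAffine T.left] [Flat π.left]
    [Surjective π.left] (f' : (yon S).obj T' ⟶ X.obj)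
    (hf : ∀ (R : Over S) (x y : R ⟶ T'), x ≫ π = y ≫ π → (yon S).map x ≫ f' = (yon S).map y ≫ f') :
    ∃ g : (yon S).obj T ⟶ X.obj, (yon S).map π ≫ g = f' := by
  obtain ⟨U, p, hp, hs⟩ := X.2.atlas
  let ι : Type u := {O : U.left.Opens // IsAffineOpen O}
  let Ui : ι → Over S := fun O => Over.mk (O.1.ι ≫ U.hom)
  have hUi : ∀ i, IsAffine (Ui i).left := fun i => i.2
  let a : ∀ i, (yon S).obj (Ui i) ⟶ X.obj := fun i => (yon S).map (Over.homMk i.1.ι : Ui i ⟶ U) ≫ p
  have ha : ∀ i, RepWith @Etale (a i) := fun i => MorphismProperty.comp_mem (RepWith @Etale) _ _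
    ((repWith_yon_map_iff _ _).2 (inferInstance : Etale i.1.ι)) hp
  have hpb : ∀ i, ∃ (V' : Over S) (u' : V' ⟶ Ui i) (v' : V' ⟶ T'),
      IsPullback ((yon S).map u') ((yon S).map v') (a i) f' := fun i => by
    obtain ⟨V', v', u', sq⟩ := (ha i).1 f'
    obtain ⟨u', rfl⟩ := (yon S).map_surjective u'
    exact ⟨V', u', v', sq⟩
  choose V' u' v' sq using hpb
  have hD : ∀ i, Data π f' (a i) (u' i) (v' i) := fun i => ⟨hf, sq i⟩
  choose V v c w hsq hcw using fun i => (hD i).exists_descent (indQuasiAffine (ha i) (sq i))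
  let g : ∀ i, (yon S).obj (V i) ⟶ X.obj := fun i => (yon S).map (w i) ≫ a i
  have hg : ∀ i, (yon S).map (c i) ≫ g i = (yon S).map (v' i) ≫ f' := fun i => by
    rw [← (sq i).w, ← Category.assoc, ← Functor.map_comp, hcw i]
  have hv' : ∀ i, Etale (v' i).left := fun i => (ha i).2 f' _ _ (sq i)
  have hqc : QuasiCompact π.left := inferInstance
  have hv : ∀ i, Etale (v i).left := fun i =>
    MorphismProperty.of_isPullback_of_descendsAlong (P := @Etale)
      (Q := @Surjective ⊓ @Flat ⊓ @QuasiCompact) ((hsq i).map (Over.forget S)).flip ⟨⟨‹_›, ‹_›⟩, ‹_›⟩ (hv' i)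
  have hcov : ∀ t' : T'.left, ∃ (i : ι) (z : (V' i).left), (v' i).left z = t' := by
    intro t'
    obtain ⟨y, hy⟩ := surjective_ofPt hs (Points.ofPt f' t')
    obtain ⟨O, hO, hyO⟩ : ∃ O : U.left.Opens, O ∈ U.left.affineOpens ∧ y ∈ O := by
      obtain ⟨_, ⟨W, hW, rfl⟩, huW, -⟩ := (U.left.isBasis_affineOpens).exists_subset_of_mem_open
        (show y ∈ (⊤ : U.left.Opens) from trivial) (⊤ : U.left.Opens).2
      exact ⟨W, hW, huW⟩
    obtain ⟨z, -, hz⟩ := exists_of_isPullback_charts (sq ⟨O, hO⟩) ⟨y, hyO⟩ t' (by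
      rw [← hy]
      exact ofPt_map_comp _ _ _)
    exact ⟨_, z, hz⟩
  have hcov2 : ∀ t : T.left, ∃ (i : ι) (z : (V i).left), (v i).left z = t := by
    intro t
    obtain ⟨t', rfl⟩ := π.left.surjective t
    obtain ⟨i, z, rfl⟩ := hcov t'
    refine ⟨i, (c i).left z, ?_⟩
    have := congrArg (fun (f : V' i ⟶ T) => f.left z) (hsq i).w
    simpa using this
  have hcompat : ∀ (i j : ι) (R : Over S) (x : R ⟶ V i) (y : R ⟶ V j), x ≫ v i = y ≫ v j →
      (yon S).map x ≫ g i = (yon S).map y ≫ g j := by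
    intro i j R x y hxy
    have sqR := IsPullback.of_hasPullback (x ≫ v i) π
    have sqRl := sqR.map (Over.forget S)
    have f1 : Flat (pullback.fst (x ≫ v i) π).left := MorphismProperty.of_isPullback (P := @Flat) sqRl.flip ‹_›
    have f2 : Surjective (pullback.fst (x ≫ v i) π).left :=
      MorphismProperty.of_isPullback (P := @Surjective) sqRl.flip ‹_›
    have f3 : QuasiCompact (pullback.fst (x ≫ v i) π).left :=
      MorphismProperty.of_isPullback (P := @QuasiCompact) sqRl.flip ‹_›
    apply fpqc_sep X.2.diag (pullback.fst (x ≫ v i) π)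
    have key : ∀ (k : ι) (r : R ⟶ V k), r ≫ v k = x ≫ v i →
        (yon S).map (pullback.fst (x ≫ v i) π) ≫ (yon S).map r ≫ g k =
          (yon S).map (pullback.snd (x ≫ v i) π) ≫ f' := by
      intro k r hr
      have e0 : (pullback.fst (x ≫ v i) π ≫ r) ≫ v k = pullback.snd (x ≫ v i) π ≫ π := by
        rw [Category.assoc, hr, pullback.condition]
      let z := (hsq k).lift (pullback.fst (x ≫ v i) π ≫ r) (pullback.snd (x ≫ v i) π) e0
      have e1 : z ≫ c k = pullback.fst (x ≫ v i) π ≫ r := (hsq k).lift_fst _ _ _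
      have e2 : z ≫ v' k = pullback.snd (x ≫ v i) π := (hsq k).lift_snd _ _ _
      rw [← Category.assoc, ← Functor.map_comp, ← e1, ← e2, Functor.map_comp, Functor.map_comp, Category.assoc,
        Category.assoc, hg k]
    rw [key i x rfl, key j y hxy.symm]
  obtain ⟨g₀, hg₀, -⟩ := glueFam V v (fun i => have := hv i; inferInstance) (fun i => have := hv i; inferInstance)
    hcov2 g hcompat
  refine ⟨g₀, ?_⟩
  obtain ⟨y, -, hy⟩ := glueFam V' v' (fun i => have := hv' i; inferInstance) (fun i => have := hv' i; inferInstance)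
    hcov (fun i => (yon S).map (v' i) ≫ f') (by
      intro i j R x y hxy
      rw [← Category.assoc, ← Category.assoc, ← Functor.map_comp, ← Functor.map_comp, hxy])
  rw [hy f' (fun i => rfl), hy ((yon S).map π ≫ g₀) (fun i => by
    rw [← Category.assoc, ← Functor.map_comp, ← (hsq i).w, Functor.map_comp, Category.assoc, hg₀ i, hg i])]

theorem isSheaf_fpqc (X : Space S) : Presheaf.IsSheaf (Scheme.fpqcTopology.over S) X.obj.obj := by
  rw [isSheaf_iff_isSheaf_of_type]
  apply K569.FpqcSh.isSheaf_fpqc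
  · refine Presieve.isSheaf_of_le _ ?_ ((isSheaf_iff_isSheaf_of_type _ _).1 X.obj.2)
    intro Z R hR
    rw [GrothendieckTopology.mem_over_iff] at hR
    change R ∈ (Scheme.fppfTopology.over S) Z
    rw [GrothendieckTopology.mem_over_iff]
    exact Precoverage.toGrothendieck_mono Scheme.zariskiPrecoverage_le_fppfPrecoverage _ hR
  · intro R R' f a hf hs
    let π : Over.mk (Spec.map f ≫ a) ⟶ Over.mk a := Over.homMk (Spec.map f)
    have i1 : Flat π.left := hf
    have i2 : Surjective π.left := hs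
    have i3 : IsAffine (Over.mk (Spec.map f ≫ a)).left := (inferInstance : IsAffine (Spec R'))
    have i4 : IsAffine (Over.mk a).left := (inferInstance : IsAffine (Spec R))
    have i5 : QuasiCompact π.left := (inferInstance : QuasiCompact (Spec.map f))
    constructor
    · intro s s' h
      rw [← ofSec_inj]
      apply fpqc_sep X.2.diag π
      rw [← ofSec_map, ← ofSec_map]
      exact congrArg _ h
    · intro s hs'
      obtain ⟨g, hg⟩ := exists_glue X π (ofSec s) (fun Z x y hxy => by
        rw [← ofSec_map, ← ofSec_map, hs' Z x y hxy])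
      refine ⟨(J S).uliftYonedaEquiv g, ?_⟩
      rw [map_eq_iff, ← hg]
      congr 1
      exact (J S).uliftYonedaEquiv.symm_apply_apply g

end K610.FpqcSheaf
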