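import Groth.Agent.AlgSp.K610.FinQuot
import Groth.Agent.AlgSp.K610.SchLocus
import Groth.Agent.S1881

/-!
# Finite locally free charts: fibres in affine opens give points of the schematic locus

`exists_isSch` : `h_U ⟶ X` finite locally free surjective, the fibre through `u` contained in an affine open of `U`
⟹ the image of `u` lies in an open subspace of `X` which is an affine scheme.
-/

set_option autoImplicit false
universe u
open CategoryTheory CategoryTheory.Limits AlgebraicGeometry Opposite Topology TopologicalSpace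
open AlgSp

namespace K610.InvOpen

open K610.Base K610.SchLocus K610.Sub

variable {S : Scheme.{u}}

theorem isAffine_of_opensRange {A B : Scheme.{u}} (f : A ⟶ B) [IsOpenImmersion f] (h : IsAffineOpen f.opensRange) :
    IsAffine A := by
  have : IsAffine f.opensRange := h
  exact .of_isIso (IsOpenImmersion.isoOfRangeEq f f.opensRange.ι (by simp)).hom

/-- an invariant affine open of a finite locally free chart gives an affine open of `X` -/
theorem isSch_image {X : Space S} {U : Over S} {a : (yon S).obj U ⟶ X.obj} (h1 : RepWith @IsFinite a)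
    (h2 : RepWith @Flat a) (h3 : RepWith @LocallyOfFinitePresentation a) (h4 : RepWith @Surjective a)
    (W : U.left.Opens) (hW : IsAffineOpen W)
    (hinv : Points.ofPt a ⁻¹' (Points.ofPt a '' (W : Set U.left)) = (W : Set U.left)) :
    ∃ (M : Over S) (f : (yon S).obj M ⟶ X.obj), IsAffine M.left ∧ RepWith @IsOpenImmersion f ∧
      Set.range (Points.ofPt f) = Points.ofPt a '' (W : Set U.left) := by
  have huo : RepWith @UniversallyOpen a := by
    refine ⟨h2.1, fun T V g fst snd sq => ?_⟩
    have i1 : Flat snd.left := h2.2 g _ _ sq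
    have i2 : LocallyOfFinitePresentation snd.left := h3.2 g _ _ sq
    exact (inferInstance : UniversallyOpen snd.left)
  obtain ⟨X', j, hj, hr⟩ := exists_open_subspace X (Points.ofPt a '' (W : Set U.left)) ((isOpenMap_ofPt huo) _ W.2)
  obtain ⟨V, v, fst, sq⟩ := hj.1 a
  have hv : IsOpenImmersion v.left := hj.2 a _ _ sq
  have hrange : Set.range v.left = (W : Set U.left) := by
    rw [← hinv, ← hr]
    ext y
    constructor
    · rintro ⟨z, rfl⟩
      refine ⟨Points.ofPt fst z, ?_⟩
      rw [← ofPt_comp, sq.w, ofPt_map_comp]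
    · rintro ⟨z, hz⟩
      obtain ⟨w, -, hw⟩ := exists_of_isPullback_yon sq z y hz
      exact ⟨w, hw⟩
  have hVaff : IsAffine V.left := by
    apply isAffine_of_opensRange v.left
    have : v.left.opensRange = W := Opens.ext hrange
    rw [this]
    exact hW
  have g1 : RepWith @IsFinite fst := MorphismProperty.of_isPullback (P := RepWith @IsFinite) sq.flip h1
  have g2 : RepWith @Flat fst := MorphismProperty.of_isPullback (P := RepWith @Flat) sq.flip h2
  have g3 : RepWith @LocallyOfFinitePresentation fst :=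
    MorphismProperty.of_isPullback (P := RepWith @LocallyOfFinitePresentation) sq.flip h3
  have g4 : RepWith @Surjective fst := MorphismProperty.of_isPullback (P := RepWith @Surjective) sq.flip h4
  obtain ⟨M, m, e, he, -, -, hM⟩ := K610.FinQuot.exists_iso g1 g2 g3 g4
    (fun x => ⟨⊤, isAffineOpen_top _, fun y _ => trivial⟩)
  refine ⟨M, e.hom ≫ j.hom, hM hVaff,
    MorphismProperty.comp_mem (RepWith @IsOpenImmersion) _ _ (repWith_iso e) hj, ?_⟩
  rw [← hr]
  exact range_comp_of_surjective _ _ (surjective_ofPt_iso e)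

/-- the fibre of `u` in an affine open: affine open neighbourhood in `X` -/
theorem exists_affine_nhd {X : Space S} {U : Over S} {a : (yon S).obj U ⟶ X.obj} (h1 : RepWith @IsFinite a)
    (h2 : RepWith @Flat a) (h3 : RepWith @LocallyOfFinitePresentation a) (h4 : RepWith @Surjective a)
    (u : U.left) (V : U.left.Opens) (hV : IsAffineOpen V) (hu : ∀ y, Points.ofPt a y = Points.ofPt a u → y ∈ V) :
    ∃ (M : Over S) (f : (yon S).obj M ⟶ X.obj), IsAffine M.left ∧ RepWith @IsOpenImmersion f ∧
      Points.ofPt a u ∈ Set.range (Points.ofPt f) := by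
  obtain ⟨R, s, t', sq⟩ := h1.1 a
  obtain ⟨t, rfl⟩ := (yon S).map_surjective t'
  have hE := K610.FinQuot.isERel (K610.OpenImm.isEqvRel_of_isPullback sq)
  have hw : t.left ≫ U.hom = s.left ≫ U.hom := by rw [Over.w, Over.w]
  let G := Groth.Agent.GrpQ.H777.ERelGrpd.ofERel U.hom hE hw
  have i1 : IsFinite G.s := h1.2 a _ _ sq
  have i2 : Flat G.s := h2.2 a _ _ sq
  have i3 : LocallyOfFinitePresentation G.s := h3.2 a _ _ sq
  have i4 : IsFinite G.t := h1.2 a _ _ sq.flip
  have i5 : Flat G.t := h2.2 a _ _ sq.flip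
  have i6 : LocallyOfFinitePresentation G.t := h3.2 a _ _ sq.flip
  obtain ⟨W, hW, huW, hinv⟩ := Groth.Agent.S1881.result S G u V hV (fun r hr => by
    apply hu
    change Points.ofPt a (t.left r) = _
    rw [← ofPt_map_comp, sq.w, ofPt_map_comp]
    exact congrArg _ hr)
  obtain ⟨M, f, hM, hf, hr⟩ := isSch_image h1 h2 h3 h4 W hW (by
    apply Set.Subset.antisymm
    · rintro y ⟨w, hw, hwy⟩
      obtain ⟨r, hr1, hr2⟩ := exists_of_isPullback_charts sq w y hwy
      have h5 : r ∈ G.t ⁻¹ᵁ W := by
        change t.left r ∈ W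
        rw [hr1]
        exact hw
      rw [← hinv] at h5
      have h6 : s.left r ∈ W := h5
      rwa [hr2] at h6
    · exact Set.subset_preimage_image _ _)
  exact ⟨M, f, hM, hf, hr ▸ ⟨u, huW, rfl⟩⟩

theorem exists_isSch {X : Space S} {U : Over S} {a : (yon S).obj U ⟶ X.obj} (h1 : RepWith @IsFinite a)
    (h2 : RepWith @Flat a) (h3 : RepWith @LocallyOfFinitePresentation a) (h4 : RepWith @Surjective a)
    (u : U.left) (V : U.left.Opens) (hV : IsAffineOpen V) (hu : ∀ y, Points.ofPt a y = Points.ofPt a u → y ∈ V) :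
    Points.ofPt a u ∈ locus X := by
  obtain ⟨M, f, -, hf, hx⟩ := exists_affine_nhd h1 h2 h3 h4 u V hV hu
  exact mem_locus_iff.2 ⟨_, ⟨M, f, hf, rfl⟩, hx⟩

end K610.InvOpen
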