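import Groth.Agent.AlgSp.K610.ZarQs

/-!
# Zariski locally quasi-separated spaces and quasi-compact affine charts
-/

set_option autoImplicit false
universe u
open CategoryTheory CategoryTheory.Limits AlgebraicGeometry Opposite Topology TopologicalSpace
open AlgSp

namespace K610.QcChart

open K610.Base K610.SchLocus K610.Sub K613.Cover

variable {S : Scheme.{u}}

theorem exists_qc_chart {X : Space S} (hX : RepWith @QuasiCompact (Limits.diag X.obj)) {V : Over S}
    (hV : K610.QsChart.Small V) {a : (yon S).obj V ⟶ X.obj} (ha : RepWith @Etale a) :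
    ∃ (X' : Space S) (j : X' ⟶ X) (a' : (yon S).obj V ⟶ X'.obj), RepWith @IsOpenImmersion j.hom ∧
      Set.range (Points.map j.hom) = Set.range (Points.ofPt a) ∧ a' ≫ j.hom = a ∧
      RepWith @Etale a' ∧ RepWith @Surjective a' ∧ RepWith @QuasiCompact a' := by
  obtain ⟨X', j, hj, hr⟩ := exists_open_subspace X (Set.range (Points.ofPt a))
    (isOpenMap_ofPt_etale ha).isOpen_range
  have hm := K610.Factor.mono_of_isOpenImmersion hj
  obtain ⟨a', h1, h2, h3⟩ := K610.OpenImm.exists_corestrict X.2 hj hr @Etale ha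
  obtain ⟨R, s, t', sq⟩ := ha.1 a
  obtain ⟨t, rfl⟩ := (yon S).map_surjective t'
  have hqc := K610.QsChart.quasiCompact_rel hX sq hV
  have sq' : IsPullback ((yon S).map t) ((yon S).map s) a' a' := by
    apply K610.OpenImm.isPullback_of_comp_mono j.hom
    rw [h1]
    exact sq
  exact ⟨X', j, a', hj, hr, h1, h2, h3, K610.ArtQuot.repWith_quasiCompact h2 h3 sq' hqc⟩

theorem isQuasiSeparatedSp_of_qc_chart {X : Space S} {V : Over S} [QuasiSeparatedSpace V.left] {a : (yon S).obj V ⟶ X.obj}
    (ha : RepWith @Etale a) (hs : RepWith @Surjective a) (hq : RepWith @QuasiCompact a) :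
    IsQuasiSeparatedSp X.obj := by
  obtain ⟨R, s, t', sq⟩ := ha.1 a
  obtain ⟨t, rfl⟩ := (yon S).map_surjective t'
  have : QuasiCompact t.left := hq.2 a _ _ sq.flip
  exact K609.Sep.isQuasiSeparatedSp_of_chart X.2 ha hs sq

/-- pointwise form -/
theorem exists_qc_chart_at {X : Space S} (hX : RepWith @QuasiCompact (Limits.diag X.obj)) (x : Points X.obj) :
    ∃ (X' : Space S) (j : X' ⟶ X) (V : Over S) (a' : (yon S).obj V ⟶ X'.obj), RepWith @IsOpenImmersion j.hom ∧
      x ∈ Set.range (Points.map j.hom) ∧ K610.QsChart.Small V ∧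
      RepWith @Etale a' ∧ RepWith @Surjective a' ∧ RepWith @QuasiCompact a' := by
  obtain ⟨V, a, v, hV, ha, rfl⟩ := K610.FinLocus.exists_small_chart X x
  obtain ⟨X', j, a', h1, h2, h3, h4, h5, h6⟩ := exists_qc_chart hX hV ha
  exact ⟨X', j, V, a', h1, by rw [h2]; exact ⟨v, rfl⟩, hV, h4, h5, h6⟩

end K610.QcChart
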