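import Groth.Agent.AlgSp.K610.OpenImm
import Groth.Agent.AlgSp.K610.FinQuot
import Groth.Agent.AlgSp.K609.Sep

/-!
# Small affine charts and quasi-compactness of their relations
-/

set_option autoImplicit false
universe u
open CategoryTheory CategoryTheory.Limits AlgebraicGeometry Opposite Topology TopologicalSpace
open AlgSp

namespace K610.QsChart

open K610.Base

variable {S : Scheme.{u}}

theorem isPullback_of_comp_mono {A B C D E : Scheme.{u}} {p₁ : A ⟶ B} {p₂ : A ⟶ C} {f : B ⟶ D} {g : C ⟶ D} (j : D ⟶ E)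
    [Mono j] (sq : IsPullback p₁ p₂ (f ≫ j) (g ≫ j)) : IsPullback p₁ p₂ f g := by
  have hw : p₁ ≫ f = p₂ ≫ g := by rw [← cancel_mono j, Category.assoc, Category.assoc, sq.w]
  refine ⟨⟨hw⟩, ⟨PullbackCone.isLimitAux _ (fun s => sq.lift s.fst s.snd (by rw [reassoc_of% s.condition]))
    (fun s => sq.lift_fst _ _ _) (fun s => sq.lift_snd _ _ _) fun s m hm => ?_⟩⟩
  apply sq.hom_ext
  · rw [sq.lift_fst]; exact hm WalkingCospan.left
  · rw [sq.lift_snd]; exact hm WalkingCospan.right

/-- `U ⟶ S` small: `U` is affine and maps into an affine open of `S`. -/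
def Small (U : Over S) : Prop :=
  IsAffine U.left ∧ ∃ W : S.Opens, IsAffineOpen W ∧ Set.range U.hom ⊆ (W : Set S)

theorem isAffine_pullback {A B : Scheme.{u}} [IsAffine A] [IsAffine B] (f : A ⟶ S) (g : B ⟶ S)
    (W : S.Opens) (hW : IsAffineOpen W) (h1 : Set.range f ⊆ (W : Set S)) (h2 : Set.range g ⊆ (W : Set S)) :
    IsAffine (pullback f g) := by
  rw [← Scheme.Opens.range_ι] at h1 h2
  let f' := IsOpenImmersion.lift W.ι f h1
  let g' := IsOpenImmersion.lift W.ι g h2
  have hf' : f' ≫ W.ι = f := IsOpenImmersion.lift_fac _ _ _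
  have hg' : g' ≫ W.ι = g := IsOpenImmersion.lift_fac _ _ _
  have sq : IsPullback (pullback.fst f g) (pullback.snd f g) (f' ≫ W.ι) (g' ≫ W.ι) := by
    rw [hf', hg']
    exact IsPullback.of_hasPullback f g
  have sq2 := isPullback_of_comp_mono _ sq
  have : IsAffine W := hW
  exact .of_isIso sq2.isoPullback.hom

theorem Small.isAffine_pullback {U : Over S} (h : Small U) : IsAffine (pullback U.hom U.hom) := by
  obtain ⟨h1, W, hW, h2⟩ := h
  exact QsChart.isAffine_pullback _ _ W hW h2 h2

theorem exists_small {U : Over S} (u : U.left) : ∃ V : U.left.Opens, u ∈ V ∧ IsAffineOpen V ∧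
    ∃ W : S.Opens, IsAffineOpen W ∧ Set.range (V.ι ≫ U.hom) ⊆ (W : Set S) := by
  obtain ⟨W, hW, hsW, -⟩ : ∃ W : S.Opens, W ∈ S.affineOpens ∧ U.hom u ∈ W ∧ True := by
    obtain ⟨_, ⟨W, hW, rfl⟩, huW, -⟩ := (S.isBasis_affineOpens).exists_subset_of_mem_open
      (show U.hom u ∈ (⊤ : S.Opens) from trivial) (⊤ : S.Opens).2
    exact ⟨W, hW, huW, trivial⟩
  obtain ⟨V, hV, huV, hVW⟩ : ∃ V : U.left.Opens, V ∈ U.left.affineOpens ∧ u ∈ V ∧
      (V : Set U.left) ⊆ U.hom ⁻¹' (W : Set S) := by
    obtain ⟨_, ⟨V, hV, rfl⟩, huW, h⟩ := (U.left.isBasis_affineOpens).exists_subset_of_mem_open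
      (show u ∈ (U.hom ⁻¹ᵁ W : U.left.Opens) from hsW) (U.hom ⁻¹ᵁ W : U.left.Opens).2
    exact ⟨V, hV, huW, h⟩
  refine ⟨V, huV, hV, W, hW, ?_⟩
  rintro _ ⟨y, rfl⟩
  rw [Scheme.Hom.comp_apply]
  exact hVW y.2

/-- charts of affine schemes have quasi-separated relations -/
theorem quasiSeparatedSpace_rel {X : Sp S} {U R : Over S} {a : (yon S).obj U ⟶ X} {s t : R ⟶ U}
    (sq : IsPullback ((yon S).map t) ((yon S).map s) a a) [IsAffine U.left] : QuasiSeparatedSpace R.left := by
  have hE := K610.FinQuot.isERel (K610.OpenImm.isEqvRel_of_isPullback sq)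
  have hmono : Mono (pullback.lift t.left s.left (terminal.hom_ext _ _) :
      R.left ⟶ pullback (terminal.from U.left) (terminal.from U.left)) := by
    constructor
    intro T r r' h
    apply hE.mono
    · rw [← pullback.lift_fst (f := terminal.from U.left) (g := terminal.from U.left) t.left s.left
        (terminal.hom_ext _ _), ← Category.assoc, h, Category.assoc]
    · rw [← pullback.lift_snd (f := terminal.from U.left) (g := terminal.from U.left) t.left s.left
        (terminal.hom_ext _ _), ← Category.assoc, h, Category.assoc]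
  exact quasiSeparatedSpace_of_quasiSeparated (pullback.lift t.left s.left (terminal.hom_ext _ _) :
      R.left ⟶ pullback (terminal.from U.left) (terminal.from U.left))

/-- for a small chart of a space with quasi-compact diagonal the relation is quasi-compact -/
theorem quasiCompact_rel {X : Sp S} (hX : RepWith @QuasiCompact (Limits.diag X)) {U R : Over S}
    {a : (yon S).obj U ⟶ X} {s t : R ⟶ U}
    (sq : IsPullback ((yon S).map t) ((yon S).map s) a a) (hU : Small U) : QuasiCompact s.left := by
  have h1 := K609.Diag.prop_of_repWith_diag @QuasiCompact hX sq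
  have h2 := hU.isAffine_pullback
  have h3 := hU.1
  have : CompactSpace R.left := QuasiCompact.compactSpace_of_compactSpace (pullback.lift t.left s.left
    ((Over.w t).trans (Over.w s).symm) : R.left ⟶ pullback U.hom U.hom)
  exact (quasiCompact_iff_compactSpace s.left).2 inferInstance

end K610.QsChart
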