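import Groth.Agent.AlgSp.K610.Base
import Mathlib.CategoryTheory.Sites.RegularEpi

/-!
# The big fppf site: coverings, locally surjective morphisms, descent of morphisms

* `mem_J_iff` : explicit form of the covering sieves.
* `isLocallySurjective_of_repWith`, `epi_of_repWith` : an etale (flat lfp) surjective representable morphism
  is locally surjective / an epimorphism.
* `exists_local_lift`, `exists_desc`, `isIso_of_mono_of_epi_comp`.
-/

set_option autoImplicit false
universe u
open CategoryTheory CategoryTheory.Limits AlgebraicGeometry Opposite Topology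

namespace K610.Site

open AlgSp K610.Base

variable {S : Scheme.{u}} {F G H P : Sp S}

theorem mem_grothendieckTopology_iff_forall {P : MorphismProperty Scheme.{u}} [P.IsMultiplicative]
    [P.IsStableUnderBaseChange] {X : Scheme.{u}} {S : Sieve X} :
    S ∈ Scheme.grothendieckTopology P X ↔ ∀ x : X, ∃ (Y : Scheme.{u}) (g : Y ⟶ X), S g ∧ P g ∧
      x ∈ Set.range g := by
  rw [Scheme.mem_grothendieckTopology_iff]
  constructor
  · rintro ⟨𝒰, h⟩ x
    obtain ⟨i, y, hy⟩ := 𝒰.exists_eq x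
    exact ⟨𝒰.X i, 𝒰.f i, h _ _ ⟨i⟩, 𝒰.map_prop i, ⟨y, hy⟩⟩
  · intro h
    choose Y g hg hP hy using h
    let 𝒰 : Scheme.Cover.{u} (Scheme.precoverage P) X :=
      { I₀ := X
        X := Y
        f := g
        mem₀ := by
          rw [Scheme.presieve₀_mem_precoverage_iff]
          exact ⟨fun x => ⟨x, hy x⟩, hP⟩ }
    refine ⟨𝒰, ?_⟩
    rintro _ _ ⟨i⟩
    exact hg i

theorem mem_over_grothendieckTopology_iff {P : MorphismProperty Scheme.{u}} [P.IsMultiplicative]
    [P.IsStableUnderBaseChange] {S : Scheme.{u}} {T : Over S} {R : Sieve T} :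
    R ∈ (Scheme.grothendieckTopology P).over S T ↔ ∀ x : T.left, ∃ (Y : Over S) (g : Y ⟶ T), R g ∧ P g.left ∧
      x ∈ Set.range g.left := by
  rw [GrothendieckTopology.mem_over_iff, mem_grothendieckTopology_iff_forall]
  constructor
  · intro h x
    obtain ⟨Y, g, hg, hP, hx⟩ := h x
    rw [Sieve.overEquiv_iff] at hg
    exact ⟨_, _, hg, hP, hx⟩
  · intro h x
    obtain ⟨Y, g, hg, hP, hx⟩ := h x
    refine ⟨Y.left, g.left, ?_, hP, hx⟩
    rw [Sieve.overEquiv_iff]
    have := R.downward_closed hg (Over.homMk (𝟙 _) (by simp) : Over.mk (g.left ≫ T.hom) ⟶ Y)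
    convert this using 1
    ext
    simp

set_option backward.isDefEq.respectTransparency.types false in
theorem mem_J_iff {T : Over S} {R : Sieve T} :
    R ∈ J S T ↔ ∀ x : T.left, ∃ (Y : Over S) (g : Y ⟶ T), R g ∧ Flat g.left ∧
      LocallyOfFinitePresentation g.left ∧ x ∈ Set.range g.left := by
  have h1 : MorphismProperty.IsMultiplicative (C := Scheme.{u}) @LocallyOfFinitePresentation :=
    { id_mem := fun X => inferInstanceAs (LocallyOfFinitePresentation (𝟙 X)) }
  have h2 : MorphismProperty.IsMultiplicative (C := Scheme.{u}) @Flat :=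
    { id_mem := fun X => inferInstanceAs (Flat (𝟙 X)) }
  have h3 : MorphismProperty.IsMultiplicative (C := Scheme.{u}) (@Flat ⊓ @LocallyOfFinitePresentation) :=
    MorphismProperty.IsMultiplicative.inf
  refine (mem_over_grothendieckTopology_iff (P := @Flat ⊓ @LocallyOfFinitePresentation)).trans ?_
  refine forall_congr' fun x => exists_congr fun Y => exists_congr fun g => ?_
  constructor
  · rintro ⟨h1, ⟨h2, h3⟩, h4⟩
    exact ⟨h1, h2, h3, h4⟩
  · rintro ⟨h1, h2, h3, h4⟩
    exact ⟨h1, ⟨h2, h3⟩, h4⟩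

/-- Flat, locally of finite presentation and surjective. -/
abbrev Fppf : MorphismProperty Scheme.{u} := @Flat ⊓ @LocallyOfFinitePresentation ⊓ @Surjective

theorem isLocallySurjective_of_exists (f : F ⟶ G)
    (h : ∀ (T : Over S) (g : (yon S).obj T ⟶ G) (x : T.left), ∃ (Y : Over S) (φ : Y ⟶ T),
      Flat φ.left ∧ LocallyOfFinitePresentation φ.left ∧ x ∈ Set.range φ.left ∧
      ∃ g' : (yon S).obj Y ⟶ F, g' ≫ f = (yon S).map φ ≫ g) : Sheaf.IsLocallySurjective f := by
  constructor
  intro T s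
  rw [mem_J_iff]
  intro x
  obtain ⟨Y, φ, h1, h2, h3, g', hg'⟩ := h T (ofSec s) x
  refine ⟨Y, φ, ?_, h1, h2, h3⟩
  refine ⟨(J S).uliftYonedaEquiv g', ?_⟩
  have := congrArg (J S).uliftYonedaEquiv hg'
  rw [(J S).uliftYonedaEquiv_comp, ← (J S).uliftYonedaEquiv_naturality, Equiv.apply_symm_apply] at this
  exact this

theorem exists_local_lift (f : F ⟶ G) [Sheaf.IsLocallySurjective f] {T : Over S}
    (g : (yon S).obj T ⟶ G) (x : T.left) : ∃ (Y : Over S) (φ : Y ⟶ T),
      Flat φ.left ∧ LocallyOfFinitePresentation φ.left ∧ x ∈ Set.range φ.left ∧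
      ∃ g' : (yon S).obj Y ⟶ F, g' ≫ f = (yon S).map φ ≫ g := by
  have h := Presheaf.imageSieve_mem (J S) f.hom ((J S).uliftYonedaEquiv g)
  rw [mem_J_iff] at h
  obtain ⟨Y, φ, ⟨s, hs⟩, h1, h2, h3⟩ := h x
  refine ⟨Y, φ, h1, h2, h3, ofSec s, ?_⟩
  apply (J S).uliftYonedaEquiv.injective
  rw [(J S).uliftYonedaEquiv_comp, ← (J S).uliftYonedaEquiv_naturality, Equiv.apply_symm_apply]
  exact hs

theorem isLocallySurjective_of_repWith {f : F ⟶ G} (hf : RepWith Fppf f) : Sheaf.IsLocallySurjective f := by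
  apply isLocallySurjective_of_exists
  intro T g x
  obtain ⟨⟨h1, h2⟩, h3⟩ := hf.property_snd g
  exact ⟨_, hf.rep.snd g, h1, h2, h3.surj x, hf.rep.fst g, hf.rep.w g⟩

theorem repWith_fppf_of_etale {f : F ⟶ G} (h1 : RepWith @Etale f) (h2 : RepWith @Surjective f) :
    RepWith Fppf f :=
  ⟨h1.1, fun U V g fst snd h => by
    have h3 : Etale snd.left := h1.2 g fst snd h
    exact ⟨⟨inferInstanceAs (Flat snd.left), inferInstanceAs (LocallyOfFinitePresentation snd.left)⟩,
      h2.2 g fst snd h⟩⟩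

theorem epi_of_repWith {f : F ⟶ G} (hf : RepWith Fppf f) : Epi f :=
  have := isLocallySurjective_of_repWith hf
  inferInstance

theorem epi_of_etale {f : F ⟶ G} (h1 : RepWith @Etale f) (h2 : RepWith @Surjective f) : Epi f :=
  epi_of_repWith (repWith_fppf_of_etale h1 h2)

theorem isLocallySurjective_of_etale {f : F ⟶ G} (h1 : RepWith @Etale f) (h2 : RepWith @Surjective f) :
    Sheaf.IsLocallySurjective f :=
  isLocallySurjective_of_repWith (repWith_fppf_of_etale h1 h2)

theorem isIso_of_mono_of_epi_comp {m : F ⟶ G} [Mono m] {q : H ⟶ F} (h : Epi (q ≫ m)) : IsIso m := by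
  have := epi_of_epi q m
  exact isIso_of_mono_of_epi m

/-- descent of morphisms along an epimorphism -/
theorem exists_desc (p : F ⟶ G) [Epi p] (m : F ⟶ H)
    (h : ∀ (T : Over S) (a b : (yon S).obj T ⟶ F), a ≫ p = b ≫ p → a ≫ m = b ≫ m) :
    ∃ d : G ⟶ H, p ≫ d = m := by
  have hp : IsRegularEpi p := IsRegularEpiCategory.regularEpiOfEpi p
  have : EffectiveEpi p := (isRegularEpi_iff_effectiveEpi p).1 hp
  have key : ∀ {Z : Sp S} (a b : Z ⟶ F), a ≫ p = b ≫ p → a ≫ m = b ≫ m := fun {Z} a b hab =>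
    hom_ext_yon fun T g => by
      rw [← Category.assoc, ← Category.assoc]
      apply h
      rw [Category.assoc, Category.assoc, hab]
  exact ⟨EffectiveEpi.desc p m key, EffectiveEpi.fac p m key⟩

/-- equality of two morphisms out of a scheme can be checked locally -/
theorem eq_of_cover {T : Over S} {a b : (yon S).obj T ⟶ F} (h : ∀ x : T.left, ∃ (Y : Over S) (φ : Y ⟶ T),
    Flat φ.left ∧ LocallyOfFinitePresentation φ.left ∧ x ∈ Set.range φ.left ∧
      (yon S).map φ ≫ a = (yon S).map φ ≫ b) : a = b := by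
  apply (J S).uliftYonedaEquiv.injective
  let R : Sieve T := Sieve.generate (fun Y φ => (yon S).map φ ≫ a = (yon S).map φ ≫ b)
  have hR : R ∈ J S T := by
    rw [mem_J_iff]
    intro x
    obtain ⟨Y, φ, h1, h2, h3, h4⟩ := h x
    exact ⟨Y, φ, Sieve.le_generate _ _ _ h4, h1, h2, h3⟩
  refine (((isSheaf_iff_isSheaf_of_type _ _).1 F.2).isSeparated _ hR).ext ?_
  rintro Y _ ⟨Z, ψ, φ, hφ, rfl⟩
  have h2 := congrArg (fun m => (J S).uliftYonedaEquiv ((yon S).map ψ ≫ m)) hφ
  simp only [← Functor.map_comp_assoc] at h2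
  rwa [← (J S).uliftYonedaEquiv_naturality, ← (J S).uliftYonedaEquiv_naturality] at h2

end K610.Site
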