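import Mathlib.Topology.Spectral.ConstructibleTopology
import Mathlib.Topology.Maps.OpenQuotient

/-!
# Open quotients of spectral spaces

`π : U → X` an open quotient map, `U` spectral, preimages of images of compact opens compact.  Then `X` is
quasi-compact, prespectral, quasi-separated and quasi-sober; spectral as soon as it is T0.
-/

set_option autoImplicit false
open Topology TopologicalSpace Set

namespace K610.SpecQuot

variable {U X : Type*} [TopologicalSpace U] [TopologicalSpace X]

section constr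

theorem isOpen_constructible_of_isOpen [PrespectralSpace U] {O : Set U} (hO : IsOpen O) :
    IsOpen[constructibleTopology U] O := by
  obtain ⟨𝒮, h𝒮, rfl⟩ := (PrespectralSpace.isTopologicalBasis (X := U)).open_eq_sUnion hO
  exact @isOpen_sUnion _ (constructibleTopology U) _ fun s hs =>
    (h𝒮 hs).2.isOpen_constructibleTopology_of_isOpen (h𝒮 hs).1

theorem isClosed_constructible_of_isClosed [PrespectralSpace U] {T : Set U} (hT : IsClosed T) :
    IsClosed[constructibleTopology U] T := by
  rw [← @isOpen_compl_iff _ _ (constructibleTopology U)]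
  exact isOpen_constructible_of_isOpen hT.isOpen_compl

theorem isClosed_constructible_of_isCompact {T : Set U} (hT : IsOpen T) (hc : IsCompact T) :
    IsClosed[constructibleTopology U] T := by
  rw [← @isOpen_compl_iff _ _ (constructibleTopology U)]
  exact IsCompact.isOpen_constructibleTopology_of_isClosed (by rwa [compl_compl]) hT.isClosed_compl

/-- cofiltered intersections of nonempty pro-constructible subsets of a spectral space are nonempty -/
theorem nonempty_iInter [CompactSpace U] [QuasiSober U] [PrespectralSpace U] [QuasiSeparatedSpace U]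
    {ι : Type*} [Nonempty ι] (A : ι → Set U) (hd : Directed (· ⊇ ·) A) (hn : ∀ i, (A i).Nonempty)
    (hc : ∀ i, IsClosed[constructibleTopology U] (A i)) : (⋂ i, A i).Nonempty := by
  let B : ι → Set (WithConstructibleTopology U) := fun i => WithTopology.ofTopology ⁻¹' (A i)
  have hB : ∀ i, IsClosed (B i) := fun i => by
    rw [WithConstructibleTopology.isClosed_iff]
    exact hc i
  have h := IsCompact.nonempty_iInter_of_directed_nonempty_isCompact_isClosed B
    (fun i j => by
      obtain ⟨k, h1, h2⟩ := hd i j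
      exact ⟨k, Set.preimage_mono h1, Set.preimage_mono h2⟩)
    (fun i => by
      obtain ⟨x, hx⟩ := hn i
      exact ⟨WithTopology.toTopology _ x, hx⟩)
    (fun i => (hB i).isCompact) hB
  obtain ⟨x, hx⟩ := h
  refine ⟨WithTopology.ofTopology x, Set.mem_iInter.2 fun i => Set.mem_iInter.1 hx i⟩

end constr

variable {π : U → X}

theorem isCompact_preimage [PrespectralSpace U] (hπ : IsOpenQuotientMap π)
    (hc : ∀ O, IsOpen O → IsCompact O → IsCompact (π ⁻¹' (π '' O)))
    {W : Set X} (hW : IsOpen W) (hW' : IsCompact W) : IsCompact (π ⁻¹' W) := by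
  have key : ∀ x ∈ W, ∃ O : Set U, IsOpen O ∧ IsCompact O ∧ x ∈ π '' O ∧ π '' O ⊆ W := by
    intro x hx
    obtain ⟨u, rfl⟩ := hπ.surjective x
    obtain ⟨O, ⟨hO, hOc⟩, huO, hOW⟩ := (PrespectralSpace.isTopologicalBasis (X := U)).exists_subset_of_mem_open
      (show u ∈ π ⁻¹' W from hx) (hW.preimage hπ.continuous)
    exact ⟨O, hO, hOc, ⟨u, huO, rfl⟩, by rintro _ ⟨v, hv, rfl⟩; exact hOW hv⟩
  choose! O hO hOc hxO hOW using key
  obtain ⟨t, ht⟩ := hW'.elim_nhds_subcover' (fun x _ => π '' O x) (fun x hx =>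
    (hπ.isOpenMap _ (hO x hx)).mem_nhds (hxO x hx))
  have : π ⁻¹' W = ⋃ x ∈ t, π ⁻¹' (π '' O (x : X)) := by
    apply Set.Subset.antisymm
    · intro u hu
      obtain ⟨x, hx, h⟩ := Set.mem_iUnion₂.1 (ht hu)
      exact Set.mem_iUnion₂.2 ⟨x, hx, h⟩
    · intro u hu
      obtain ⟨x, hx, h⟩ := Set.mem_iUnion₂.1 hu
      exact hOW _ x.2 h
  rw [this]
  exact t.isCompact_biUnion fun x _ => hc _ (hO _ x.2) (hOc _ x.2)

theorem compactSpace [CompactSpace U] (hπ : IsOpenQuotientMap π) : CompactSpace X :=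
  hπ.surjective.compactSpace hπ.continuous

theorem prespectralSpace [PrespectralSpace U] (hπ : IsOpenQuotientMap π) : PrespectralSpace X := by
  refine ⟨isTopologicalBasis_of_isOpen_of_nhds (fun _ h => h.1) fun x W hx hW => ?_⟩
  obtain ⟨u, rfl⟩ := hπ.surjective x
  obtain ⟨O, ⟨hO, hOc⟩, huO, hOW⟩ := (PrespectralSpace.isTopologicalBasis (X := U)).exists_subset_of_mem_open
    (show u ∈ π ⁻¹' W from hx) (hW.preimage hπ.continuous)
  exact ⟨π '' O, ⟨hπ.isOpenMap _ hO, hOc.image hπ.continuous⟩, ⟨u, huO, rfl⟩, by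
    rintro _ ⟨v, hv, rfl⟩; exact hOW hv⟩

theorem quasiSeparatedSpace [PrespectralSpace U] [QuasiSeparatedSpace U] (hπ : IsOpenQuotientMap π)
    (hc : ∀ O, IsOpen O → IsCompact O → IsCompact (π ⁻¹' (π '' O))) : QuasiSeparatedSpace X := by
  refine ⟨fun W W' h1 h2 h3 h4 => ?_⟩
  have h5 := QuasiSeparatedSpace.inter_isCompact _ _ (h1.preimage hπ.continuous) (isCompact_preimage hπ hc h1 h2)
    (h3.preimage hπ.continuous) (isCompact_preimage hπ hc h3 h4)
  rw [← Set.preimage_inter] at h5
  have h6 := h5.image hπ.continuous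
  rwa [Set.image_preimage_eq _ hπ.surjective] at h6

theorem quasiSober [CompactSpace U] [QuasiSober U] [PrespectralSpace U] [QuasiSeparatedSpace U]
    (hπ : IsOpenQuotientMap π)
    (hc : ∀ O, IsOpen O → IsCompact O → IsCompact (π ⁻¹' (π '' O))) : QuasiSober X := by
  refine ⟨fun {Z} hZ hZc => ?_⟩
  have hX := prespectralSpace hπ
  have hX' := quasiSeparatedSpace hπ hc
  let ι := {W : Set X // IsOpen W ∧ IsCompact W ∧ (Z ∩ W).Nonempty}
  let A : ι → Set U := fun W => π ⁻¹' (Z ∩ W.1)
  have hne : Nonempty ι := by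
    obtain ⟨z, hz⟩ := hZ.nonempty
    obtain ⟨W, ⟨hW, hWc⟩, hzW, -⟩ := (PrespectralSpace.isTopologicalBasis (X := X)).exists_subset_of_mem_open
      (show z ∈ (Set.univ : Set X) from trivial) isOpen_univ
    exact ⟨W, hW, hWc, z, hz, hzW⟩
  obtain ⟨u, hu⟩ := nonempty_iInter A (by
    intro W W'
    refine ⟨⟨W.1 ∩ W'.1, W.2.1.inter W'.2.1,
      QuasiSeparatedSpace.inter_isCompact _ _ W.2.1 W.2.2.1 W'.2.1 W'.2.2.1,
      hZ.isPreirreducible _ _ W.2.1 W'.2.1 W.2.2.2 W'.2.2.2⟩, ?_, ?_⟩
    · exact Set.preimage_mono (Set.inter_subset_inter_right _ Set.inter_subset_left)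
    · exact Set.preimage_mono (Set.inter_subset_inter_right _ Set.inter_subset_right))
    (fun W => by
      obtain ⟨z, hz⟩ := W.2.2.2
      obtain ⟨u, rfl⟩ := hπ.surjective z
      exact ⟨u, hz⟩)
    (fun W => by
      change IsClosed[constructibleTopology U] (π ⁻¹' Z ∩ π ⁻¹' W.1)
      exact @IsClosed.inter _ _ _ (constructibleTopology U)
        (isClosed_constructible_of_isClosed (hZc.preimage hπ.continuous))
        (isClosed_constructible_of_isCompact (W.2.1.preimage hπ.continuous)
          (isCompact_preimage hπ hc W.2.1 W.2.2.1)))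
  rw [Set.mem_iInter] at hu
  obtain ⟨W₀⟩ := hne
  refine ⟨π u, Set.Subset.antisymm (closure_minimal (Set.singleton_subset_iff.2 (hu W₀).1) hZc) fun y hy => ?_⟩
  rw [mem_closure_iff]
  intro N hN hyN
  obtain ⟨W, ⟨hW, hWc⟩, hzW, hWN⟩ := (PrespectralSpace.isTopologicalBasis (X := X)).exists_subset_of_mem_open hyN hN
  exact ⟨π u, hWN (hu ⟨W, hW, hWc, y, hy, hzW⟩).2, rfl⟩

theorem spectralSpace [SpectralSpace U] [T0Space X] (hπ : IsOpenQuotientMap π)
    (hc : ∀ O, IsOpen O → IsCompact O → IsCompact (π ⁻¹' (π '' O))) : SpectralSpace X where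
  __ := compactSpace hπ
  __ := prespectralSpace hπ
  __ := quasiSeparatedSpace hπ hc
  __ := quasiSober hπ hc

end K610.SpecQuot
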