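import Groth.Agent.AlgSp.K610.SpecQuot
import Groth.Agent.AlgSp.K610.QcChart
import Groth.Agent.AlgSp.K621.Decent

/-!
# Topology of (Zariski locally) quasi-separated algebraic spaces
-/

set_option autoImplicit false
universe u
open CategoryTheory CategoryTheory.Limits AlgebraicGeometry Opposite Topology TopologicalSpace
open AlgSp

namespace K610.SpecSpace

open K610.Base K610.SchLocus K610.Sub K613.Cover K621.Decent

variable {S : Scheme.{u}}

/-- quasi-compact charts: preimages of images of compact opens are compact -/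
theorem isCompact_preimage_image {X : Sp S} {U : Over S} {a : (yon S).obj U ⟶ X} (hq : RepWith @QuasiCompact a)
    (O : Set U.left) (hO : IsOpen O) (hc : IsCompact O) : IsCompact (Points.ofPt a ⁻¹' (Points.ofPt a '' O)) := by
  obtain ⟨R, s, t', sq⟩ := hq.1 a
  obtain ⟨t, rfl⟩ := (yon S).map_surjective t'
  have h1 : QuasiCompact t.left := hq.2 a _ _ sq.flip
  have h2 : Points.ofPt a ⁻¹' (Points.ofPt a '' O) = s.left '' (t.left ⁻¹' O) := by
    rw [preimage_image_ofPt sq, Functor.preimage_map]
  rw [h2]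
  exact (t.left.isCompact_preimage (U := ⟨O, hO⟩) hc).image s.left.continuous

/-- fibres of a quasi-compact étale chart are finite -/
theorem finite_fibre {X : Sp S} {U : Over S} {a : (yon S).obj U ⟶ X} (ha : RepWith @Etale a)
    (hq : RepWith @QuasiCompact a) (u : U.left) :
    {y : U.left | Points.ofPt a y = Points.ofPt a u}.Finite := by
  obtain ⟨R, s, t', sq⟩ := hq.1 a
  obtain ⟨t, rfl⟩ := (yon S).map_surjective t'
  have i1 : Etale s.left := ha.2 a _ _ sq
  have i2 : QuasiCompact s.left := hq.2 a _ _ sq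
  have i3 := K610.ArtQuot.locallyQuasiFinite_of_etale s.left
  refine ((s.left.finite_preimage_singleton u).image t.left).subset ?_
  intro y hy
  obtain ⟨r, hr1, hr2⟩ := exists_of_isPullback_charts sq y u hy
  exact ⟨r, hr2, hr1⟩

theorem finFibres_of_qc {X : Sp S} {U : Over S} {a : (yon S).obj U ⟶ X} [QuasiSeparatedSpace U.left]
    (ha : RepWith @Etale a) (hs : RepWith @Surjective a) (hq : RepWith @QuasiCompact a) (x : Points X) :
    FinFibres X x := by
  intro V b hV hb
  obtain ⟨u, rfl⟩ := surjective_ofPt hs x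
  obtain ⟨P, v, p', sq⟩ := hq.1 b
  obtain ⟨p, rfl⟩ := (yon S).map_surjective p'
  have i1 : QuasiCompact v.left := hq.2 b _ _ sq
  have i2 : CompactSpace P.left := QuasiCompact.compactSpace_of_compactSpace v.left
  have i3 : Etale p.left := hb.2 a _ _ sq.flip
  have i4 := K610.ArtQuot.locallyQuasiFinite_of_etale p.left
  have i5 : QuasiCompact p.left := quasiCompact_of_compactSpace p.left
  have hfin := (finite_fibre ha hq u).biUnion (fun y _ => (p.left.finite_preimage_singleton y).image v.left)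
  refine hfin.subset ?_
  intro w hw
  obtain ⟨r, hr1, hr2⟩ := exists_of_isPullback_charts sq u w hw.symm
  exact Set.mem_biUnion (show u ∈ {y : U.left | Points.ofPt a y = Points.ofPt a u} from rfl) ⟨r, hr1, hr2⟩

/-- finiteness of the fibres of affine étale charts is a Zariski local property -/
theorem finFibres_of_cover {X : Sp S} (hX : IsAlgSpace X)
    (h : ∀ y : Points X, ∃ (Z : Sp S) (j : Z ⟶ X), RepWith @IsOpenImmersion j ∧ y ∈ Set.range (Points.map j) ∧
      ∀ z : Points Z, FinFibres Z z) (x : Points X) : FinFibres X x := by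
  intro V b hV hb
  have key : ∀ v : V.left, ∃ W : V.left.Opens, v ∈ W ∧ ((Points.ofPt b ⁻¹' {x}) ∩ (W : Set V.left)).Finite := by
    intro v
    obtain ⟨Z, j, hj, ⟨z, hz⟩, hZ⟩ := h (Points.ofPt b v)
    have hjo := (K610.OpenImm.isOpenEmbedding_points hX hj)
    have hm := K610.Factor.mono_of_isOpenImmersion hj
    obtain ⟨W, hW, hvW, hWj⟩ : ∃ W : V.left.Opens, W ∈ V.left.affineOpens ∧ v ∈ W ∧
        (W : Set V.left) ⊆ Points.ofPt b ⁻¹' Set.range (Points.map j) := by
      obtain ⟨_, ⟨W, hW, rfl⟩, h1, h2⟩ := (V.left.isBasis_affineOpens).exists_subset_of_mem_open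
        (show v ∈ Points.ofPt b ⁻¹' Set.range (Points.map j) from ⟨z, hz⟩)
        (hjo.isOpen_range.preimage (Points.continuous_ofPt b))
      exact ⟨W, hW, h1, h2⟩
    refine ⟨W, hvW, ?_⟩
    let i : Over.mk (W.ι ≫ V.hom) ⟶ V := Over.homMk W.ι
    have hc : RepWith @Etale ((yon S).map i ≫ b) := MorphismProperty.comp_mem (RepWith @Etale) _ _
      ((repWith_yon_map_iff _ _).2 (inferInstance : Etale W.ι)) hb
    obtain ⟨c, hc'⟩ := (K610.Factor.factors_open_iff hj ((yon S).map i ≫ b)).2 (by
      rw [← range_ofPt]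
      rintro _ ⟨w, rfl⟩
      rw [ofPt_map_comp]
      exact hWj w.2)
    have hce : RepWith @Etale c := K610.OpenImm.repWith_of_comp_mono (j := j) (by rw [hc']; exact hc)
    have hinj := hjo.injective
    by_cases hx : x ∈ Set.range (Points.map j)
    · obtain ⟨x', rfl⟩ := hx
      have hWa : IsAffine (Over.mk (W.ι ≫ V.hom)).left := hW
      refine ((hZ x' _ c hWa hce).image W.ι).subset ?_
      rintro y ⟨hy1, hy2⟩
      refine ⟨⟨y, hy2⟩, ?_, rfl⟩
      apply hinj
      rw [← ofPt_comp, hc', ofPt_map_comp]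
      exact hy1
    · convert Set.finite_empty
      rw [Set.eq_empty_iff_forall_notMem]
      rintro y ⟨hy1, hy2⟩
      exact hx (by
        have := hWj hy2
        rwa [Set.mem_preimage, show Points.ofPt b y = x from hy1] at this)
  choose W hvW hWf using key
  obtain ⟨t, ht⟩ := (isCompact_univ (X := V.left)).elim_nhds_subcover (fun v => (W v : Set V.left))
    (fun v _ => (W v).2.mem_nhds (hvW v))
  refine ((t.finite_toSet).biUnion (fun v _ => hWf v)).subset ?_
  intro y hy
  obtain ⟨v, hv, hyv⟩ := Set.mem_iUnion₂.1 (ht.2 (Set.mem_univ y))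
  exact Set.mem_biUnion hv ⟨hy, hyv⟩

/-- a covering of `X` by open subspaces with quasi-compact diagonal -/
def ZarQs (X : Space S) : Prop := ∀ x : Points X.obj, ∃ (X' : Space S) (j : X' ⟶ X), RepWith @IsOpenImmersion j.hom ∧
  x ∈ Set.range (Points.map j.hom) ∧ RepWith @QuasiCompact (Limits.diag X'.obj)

theorem ZarQs.exists_chart {X : Space S} (hX : ZarQs X) (x : Points X.obj) :
    ∃ (X' : Space S) (j : X' ⟶ X) (V : Over S) (a : (yon S).obj V ⟶ X'.obj), RepWith @IsOpenImmersion j.hom ∧
      x ∈ Set.range (Points.map j.hom) ∧ K610.QsChart.Small V ∧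
      RepWith @Etale a ∧ RepWith @Surjective a ∧ RepWith @QuasiCompact a := by
  obtain ⟨X', j, hj, ⟨x', rfl⟩, hq⟩ := hX x
  obtain ⟨X'', j', V, a, h1, ⟨x'', rfl⟩, h3, h4, h5, h6⟩ := K610.QcChart.exists_qc_chart_at hq x'
  exact ⟨X'', j' ≫ j, V, a, MorphismProperty.comp_mem (RepWith @IsOpenImmersion) _ _ h1 hj,
    ⟨x'', Points.map_comp _ _ _⟩, h3, h4, h5, h6⟩

theorem ZarQs.finFibres {X : Space S} (hX : ZarQs X) (x : Points X.obj) : FinFibres X.obj x := by
  refine finFibres_of_cover X.2 (fun y => ?_) x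
  obtain ⟨X', j, V, a, h1, h2, h3, h4, h5, h6⟩ := hX.exists_chart y
  have := h3.1
  exact ⟨X'.obj, j.hom, h1, h2, finFibres_of_qc h4 h5 h6⟩

theorem ZarQs.t0Space {X : Space S} (hX : ZarQs X) : T0Space (Points X.obj) :=
  t0Space_of_finFibres X.2 hX.finFibres

theorem quasiSober_of_qc {X : Sp S} {U : Over S} {a : (yon S).obj U ⟶ X} [IsAffine U.left]
    (ha : RepWith @Etale a) (hs : RepWith @Surjective a) (hq : RepWith @QuasiCompact a) : QuasiSober (Points X) :=
  K610.SpecQuot.quasiSober (isOpenQuotientMap_ofPt ha hs) (isCompact_preimage_image hq)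

theorem ZarQs.quasiSober {X : Space S} (hX : ZarQs X) : QuasiSober (Points X.obj) := by
  choose X' j V a h1 h2 h3 h4 h5 h6 using hX.exists_chart
  let O : Points X.obj → Opens (Points X.obj) := fun x =>
    ⟨Set.range (Points.map (j x).hom), (K610.OpenImm.isOpenEmbedding_points X.2 (h1 x)).isOpen_range⟩
  have hO : IsOpenCover O := by
    rw [IsOpenCover, eq_top_iff]
    intro x _
    exact Opens.mem_iSup.2 ⟨x, h2 x⟩
  rw [hO.quasiSober_iff_forall]
  intro x
  have i1 := (h3 x).1
  have i2 : QuasiSober (Points (X' x).obj) := quasiSober_of_qc (h4 x) (h5 x) (h6 x)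
  have e := (K610.OpenImm.isOpenEmbedding_points X.2 (h1 x)).isEmbedding.toHomeomorph
  exact e.symm.isClosedEmbedding.quasiSober

theorem spectralSpace_of_qc {X : Space S} {U : Over S} {a : (yon S).obj U ⟶ X.obj} [IsAffine U.left]
    (ha : RepWith @Etale a) (hs : RepWith @Surjective a) (hq : RepWith @QuasiCompact a) :
    SpectralSpace (Points X.obj) := by
  have := t0Space_of_finFibres X.2 (finFibres_of_qc ha hs hq)
  have i : SpectralSpace U.left := {}
  exact K610.SpecQuot.spectralSpace (isOpenQuotientMap_ofPt ha hs) (isCompact_preimage_image hq)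

end K610.SpecSpace
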